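import Mathlib

/-!
# The numbers `(q ^ d - 1) / (q - 1)`
-/

set_option autoImplicit false

namespace CfsgLib.KnownB.MaxAutOrder

/-- `1 + q + ⋯ + q ^ (d - 1)`. -/
def gsum (q d : ℕ) : ℕ := ∑ i ∈ Finset.range d, q ^ i

theorem gsum_succ (q d : ℕ) : gsum q (d + 1) = gsum q d + q ^ d := Finset.sum_range_succ _ _

theorem gsum_mul (q d : ℕ) : (q - 1) * gsum q d = q ^ d - 1 := by
  rcases Nat.eq_zero_or_pos q with rfl | hq
  · rcases d with _ | d <;> simp
  obtain ⟨r, rfl⟩ : ∃ r, q = r + 1 := ⟨q - 1, by omega⟩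
  rw [Nat.add_sub_cancel]
  have h : r * gsum (r + 1) d + 1 = (r + 1) ^ d := by
    induction d with
    | zero => simp [gsum]
    | succ d ih => rw [gsum_succ, pow_succ]; rw [← ih]; ring
  omega

theorem two_pow_ge : ∀ {e : ℕ}, 1 ≤ e → e ≤ 2 ^ (e - 1) := by
  intro e he
  obtain ⟨k, rfl⟩ : ∃ k, e = k + 1 := ⟨e - 1, by omega⟩
  simp only [Nat.add_sub_cancel]
  exact Nat.lt_two_pow_self

theorem four_pow_ge : ∀ {e : ℕ}, 3 ≤ e → 4 * e ≤ 4 ^ (e - 1) := by
  intro e he
  induction e, he using Nat.le_induction with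
  | base => norm_num
  | succ e he ih =>
    obtain ⟨k, rfl⟩ : ∃ k, e = k + 3 := ⟨e - 3, by omega⟩
    simp only [Nat.add_sub_cancel, show k + 3 - 1 = k + 2 by omega] at *
    rw [show k + 3 = (k + 2) + 1 by rfl, pow_succ]
    omega

theorem mul_le_pow {c e : ℕ} (hc : 2 ≤ c) (he : 1 ≤ e) {i : ℕ} (hi : 1 ≤ i) : e * c ^ i ≤ c ^ (e * i) := by
  have h1 : e ≤ c ^ ((e - 1) * i) := calc
    e ≤ 2 ^ (e - 1) := two_pow_ge he
    _ ≤ c ^ (e - 1) := Nat.pow_le_pow_left hc _
    _ ≤ c ^ ((e - 1) * i) := Nat.pow_le_pow_right (by omega) (Nat.le_mul_of_pos_right _ (by omega))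
  calc e * c ^ i ≤ c ^ ((e - 1) * i) * c ^ i := Nat.mul_le_mul_right _ h1
    _ = c ^ (e * i) := by
      rw [← pow_add]; congr 1
      obtain ⟨k, rfl⟩ : ∃ k, e = k + 1 := ⟨e - 1, by omega⟩
      simp only [Nat.add_sub_cancel]; ring

/-- The bound for field automorphisms. -/
theorem field_arith {c e d : ℕ} (hc : 2 ≤ c) (he : 1 ≤ e) (hd : 2 ≤ d)
    (hex : ¬ (c = 2 ∧ e = 2 ∧ d = 2)) : e * gsum c d ≤ gsum (c ^ e) d := by
  have base2 : ¬ (c = 2 ∧ e = 2) → e * gsum c 2 ≤ gsum (c ^ e) 2 := by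
    intro h
    simp only [gsum, Finset.sum_range_succ, Finset.sum_range_zero, zero_add, pow_zero, pow_one]
    rcases Nat.lt_or_ge e 2 with he2 | he2
    · obtain rfl : e = 1 := by omega
      simp
    rcases Nat.lt_or_ge e 3 with he3 | he3
    · obtain rfl : e = 2 := by omega
      have : 3 ≤ c := by omega
      nlinarith
    have hg : ∀ f : ℕ, 3 ≤ f → f * (1 + c) ≤ 1 + c ^ f := by
      intro f hf
      induction f, hf using Nat.le_induction with
      | base =>
        have h4 : c * c * c = c ^ 3 := by ring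
        nlinarith [Nat.mul_le_mul (Nat.mul_le_mul hc hc) (le_refl c)]
      | succ f hf ih =>
        have h8 : c ^ 3 ≤ c ^ f := Nat.pow_le_pow_right (by omega) hf
        have h9 : 2 * c ^ f ≤ c ^ (f + 1) := by rw [pow_succ', ]; exact Nat.mul_le_mul_right _ hc
        have h10 : 1 + c ≤ c ^ 3 := by nlinarith [Nat.mul_le_mul (Nat.mul_le_mul hc hc) (le_refl c)]
        nlinarith
    exact hg e he3
  have step : ∀ d, 2 ≤ d → e * gsum c d ≤ gsum (c ^ e) d → e * gsum c (d + 1) ≤ gsum (c ^ e) (d + 1) := by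
    intro d hd h
    rw [gsum_succ, gsum_succ, ← pow_mul, mul_add]
    exact Nat.add_le_add h (mul_le_pow hc he (by omega))
  by_cases hce : c = 2 ∧ e = 2
  · obtain ⟨rfl, rfl⟩ := hce
    have hd3 : 3 ≤ d := by omega
    clear hd hex
    induction d, hd3 using Nat.le_induction with
    | base => decide
    | succ d hd3 ih => exact step d (by omega) ih
  · clear hex
    induction d, hd using Nat.le_induction with
    | base => exact base2 hce
    | succ d hd ih => exact step d hd ih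

/-- The bound for graph-field automorphisms. -/
theorem graph_arith {c e d : ℕ} (hc : 2 ≤ c) (he : 2 ≤ e) (hex : 3 ≤ e ∨ 4 ≤ c) (hd : 3 ≤ d) :
    2 * e * gsum c d ≤ gsum (c ^ e) d := by
  have key : 4 * e ≤ c ^ (2 * e - 2) := by
    rcases Nat.lt_or_ge e 3 with h | h
    · obtain rfl : e = 2 := by omega
      have : 4 ≤ c := by omega
      norm_num
      nlinarith
    · calc 4 * e ≤ 4 ^ (e - 1) := four_pow_ge h
        _ = 2 ^ (2 * e - 2) := by
          rw [show (4 : ℕ) = 2 ^ 2 from rfl, ← pow_mul]; congr 1; omega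
        _ ≤ c ^ (2 * e - 2) := Nat.pow_le_pow_left hc _
  induction d, hd using Nat.le_induction with
  | base =>
    simp only [gsum, Finset.sum_range_succ, Finset.sum_range_zero, zero_add, pow_zero, pow_one]
    have h1 : 1 + c + c ^ 2 ≤ 2 * c ^ 2 := by nlinarith
    have h2 : 4 * e * c ^ 2 ≤ (c ^ e) ^ 2 := by
      calc 4 * e * c ^ 2 ≤ c ^ (2 * e - 2) * c ^ 2 := Nat.mul_le_mul_right _ key
        _ = (c ^ e) ^ 2 := by rw [← pow_add, ← pow_mul]; congr 1; omega
    calc 2 * e * (1 + c + c ^ 2) ≤ 2 * e * (2 * c ^ 2) := Nat.mul_le_mul_left _ h1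
      _ = 4 * e * c ^ 2 := by ring
      _ ≤ (c ^ e) ^ 2 := h2
      _ ≤ _ := Nat.le_add_left _ _
  | succ d hd ih =>
    rw [gsum_succ, gsum_succ, ← pow_mul, mul_add]
    refine Nat.add_le_add ih ?_
    have h3 : 2 * e ≤ c ^ ((e - 1) * d) := calc
      2 * e ≤ 4 * e := by omega
      _ ≤ c ^ (2 * e - 2) := key
      _ ≤ c ^ ((e - 1) * d) := Nat.pow_le_pow_right (by omega) (by
        obtain ⟨k, rfl⟩ : ∃ k, e = k + 1 := ⟨e - 1, by omega⟩
        simp only [Nat.add_sub_cancel]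
        have : k * 2 ≤ k * d := Nat.mul_le_mul_left _ (by omega)
        omega)
    calc 2 * e * c ^ d ≤ c ^ ((e - 1) * d) * c ^ d := Nat.mul_le_mul_right _ h3
      _ = c ^ (e * d) := by
        rw [← pow_add]; congr 1
        obtain ⟨k, rfl⟩ : ∃ k, e = k + 1 := ⟨e - 1, by omega⟩
        simp only [Nat.add_sub_cancel]; ring

end CfsgLib.KnownB.MaxAutOrder
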