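import Cfsg.Agent.Lib.KnownB.MaxAutOrder.Arith
import Cfsg.Agent.Lib.KnownB.PSLAut.FieldAut

/-!
# Orders of inner-diagonal and field automorphisms of `PSL`
-/

set_option autoImplicit false
set_option linter.style.haveILetI false
set_option linter.unusedSectionVars false

namespace CfsgLib.KnownB.MaxAutOrder

open CfsgLib.KnownB.PSLAut Polynomial

variable {d : ℕ} {F : Type*} [Field F] [Finite F]

local notation "Md" => Matrix (Fin d) (Fin d) F
local notation "PSLd" => Matrix.ProjectiveSpecialLinearGroup (Fin d) F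
local notation "GLd" => GL (Fin d) F

theorem orderOf_le_mul {G : Type*} [Group G] [Finite G] (a : G) {e : ℕ} (he : 0 < e) :
    orderOf a ≤ e * orderOf (a ^ e) :=
  orderOf_le_of_pow_eq_one (Nat.mul_pos he (orderOf_pos _)) (by rw [pow_mul, pow_orderOf_eq_one])

/-- The fixed field of an automorphism. -/
abbrev fixF (σ : F ≃+* F) : Subfield F := FixedPoints.subfield (Subgroup.zpowers σ) F

theorem mem_fixF_iff (σ : F ≃+* F) (x : F) : x ∈ fixF σ ↔ σ x = x := by
  constructor
  · intro h; exact h ⟨σ, Subgroup.mem_zpowers σ⟩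
  · intro h
    rintro ⟨τ, hτ⟩
    exact (Subgroup.zpowers_le.2 (show σ ∈ MulAction.stabilizer (F ≃+* F) x from h) hτ :
      τ ∈ MulAction.stabilizer (F ≃+* F) x)

theorem card_fixF (σ : F ≃+* F) :
    2 ≤ Nat.card (fixF σ) ∧ Nat.card (fixF σ) ^ orderOf σ = Nat.card F := by
  haveI : Finite (F ≃+* F) := Finite.of_injective (fun τ => (τ : F → F)) DFunLike.coe_injective
  haveI := Fintype.ofFinite (Subgroup.zpowers σ)
  refine ⟨Finite.one_lt_card, ?_⟩
  rw [Module.natCard_eq_pow_finrank (K := fixF σ) (V := F), FixedPoints.finrank_eq_card,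
    ← Nat.card_eq_fintype_card, Nat.card_zpowers]

theorem card_lift_le (hn : 2 ≤ d) (N : GLd) (K : Subfield F) (S : Set Md)
    (hS : ∀ (c : K) (i : ℕ), (c : F) • ((N : Md) ^ i) ∈ S) :
    (Nat.card K - 1) * orderOf (δ N : MulAut PSLd) ≤ S.ncard - 1 := by
  classical
  haveI : NeZero d := ⟨by omega⟩
  haveI : Finite (MulAut PSLd) := Finite.of_injective _ MulEquiv.toEquiv_injective
  haveI := Fintype.ofFinite K
  set m := orderOf (δ N : MulAut PSLd) with hm
  let f : {c : K // c ≠ 0} × Fin m → ((S \ {0} : Set Md) : Set Md) := fun x =>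
    ⟨((x.1.1 : K) : F) • ((N : Md) ^ (x.2 : ℕ)), hS _ _, by
      rw [Set.mem_singleton_iff, smul_eq_zero, not_or]
      refine ⟨fun h => x.1.2 (Subtype.ext h), ?_⟩
      rw [← Units.val_pow_eq_pow_val]; exact Units.ne_zero _⟩
  have hf : Function.Injective f := by
    rintro ⟨⟨a, ha⟩, i⟩ ⟨⟨b, hb⟩, j⟩ h
    have h' : (a : F) • ((N : Md) ^ (i : ℕ)) = (b : F) • ((N : Md) ^ (j : ℕ)) := congrArg Subtype.val h
    have ha' : (a : F) ≠ 0 := fun h => ha (Subtype.ext h)
    have hb' : (b : F) ≠ 0 := fun h => hb (Subtype.ext h)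
    have hij : (δ (N ^ (i : ℕ)) : MulAut PSLd) = δ (N ^ (j : ℕ)) := by
      refine (δ_eq_iff hn _ _).2 ⟨(b : F)⁻¹ * a, mul_ne_zero (inv_ne_zero hb') ha', ?_⟩
      rw [Units.val_pow_eq_pow_val, Units.val_pow_eq_pow_val, mul_smul, h', inv_smul_smul₀ hb']
    rw [map_pow, map_pow] at hij
    have : (i : ℕ) = j := pow_injOn_Iio_orderOf (Set.mem_Iio.2 i.2) (Set.mem_Iio.2 j.2) hij
    obtain rfl : i = j := Fin.ext this
    have hne : (N : Md) ^ (i : ℕ) ≠ 0 := by rw [← Units.val_pow_eq_pow_val]; exact Units.ne_zero _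
    obtain rfl : a = b := Subtype.ext (smul_left_injective F hne h')
    rfl
  have h := Nat.card_le_card_of_injective f hf
  rw [Nat.card_prod, Nat.card_fin] at h
  have hsub : Nat.card {c : K // c ≠ 0} = Nat.card K - 1 := by
    rw [Nat.card_eq_fintype_card, Fintype.card_subtype_compl, Fintype.card_subtype_eq, Nat.card_eq_fintype_card]
  have h0 : (0 : Md) ∈ S := by simpa using hS 0 0
  rw [hsub, Nat.card_coe_set_eq, Set.ncard_sdiff_singleton_of_mem h0] at h
  exact h

theorem bound_of_poly (hn : 2 ≤ d) (N : GLd) (K : Subfield F) (P : Polynomial K) (hP : P.Monic)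
    (hdeg : P.natDegree ≤ d) (hN : aeval (N : Md) P = 0) :
    (Nat.card K - 1) * orderOf (δ N : MulAut PSLd) ≤ Nat.card K ^ d - 1 := by
  classical
  haveI : NeZero d := ⟨by omega⟩
  let f : (Fin d → K) → Md := fun a => aeval (N : Md) ((degreeLTEquiv K d).symm a : Polynomial K)
  refine (card_lift_le hn N K (Set.range f) fun c i => ?_).trans ?_
  · have hd : (C c * Polynomial.X ^ i) %ₘ P ∈ degreeLT K d := by
      rw [mem_degreeLT]
      rcases eq_or_ne ((C c * Polynomial.X ^ i) %ₘ P) 0 with h | h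
      · rw [h, degree_zero]; exact WithBot.bot_lt_coe _
      · refine lt_of_lt_of_le (degree_modByMonic_lt _ hP) ?_
        rw [degree_eq_natDegree hP.ne_zero]
        exact_mod_cast hdeg
    refine ⟨degreeLTEquiv K d ⟨_, hd⟩, ?_⟩
    simp only [f, LinearEquiv.symm_apply_apply]
    rw [modByMonic_eq_sub_mul_div, map_sub, map_mul, map_mul, hN, zero_mul, sub_zero, aeval_C, aeval_X_pow,
      ← Algebra.smul_def]
    rfl
  · refine Nat.sub_le_sub_right ?_ 1
    rw [← Set.image_univ]
    refine (Set.ncard_image_le (Set.toFinite _)).trans ?_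
    rw [Set.ncard_univ, Nat.card_pi, Finset.prod_const, Finset.card_univ, Fintype.card_fin]

/-- `g σ(g) ⋯ σ^(i-1)(g)`. -/
noncomputable def normTo (σ : F ≃+* F) (g : GLd) : ℕ → GLd
  | 0 => 1
  | i + 1 => g * Matrix.GeneralLinearGroup.map (σ : F →+* F) (normTo σ g i)

theorem pow_semilinear (σ : F ≃+* F) (g : GLd) (i : ℕ) :
    (δ g * fld σ : MulAut PSLd) ^ i = δ (normTo σ g i) * fld (σ ^ i) := by
  induction i with
  | zero => simp [normTo]
  | succ i ih =>
    rw [pow_succ', ih, normTo, map_mul, mul_assoc, ← mul_assoc (fld σ), fld_δ, pow_succ' σ, map_mul]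
    simp only [mul_assoc]

theorem GLmap_mul (σ : F ≃+* F) (a b : GLd) :
    Matrix.GeneralLinearGroup.map (σ : F →+* F) (a * b) =
      Matrix.GeneralLinearGroup.map (σ : F →+* F) a * Matrix.GeneralLinearGroup.map (σ : F →+* F) b :=
  map_mul _ _ _

theorem GLmap_GLmap (σ τ : F ≃+* F) (a : GLd) :
    Matrix.GeneralLinearGroup.map (σ : F →+* F) (Matrix.GeneralLinearGroup.map (τ : F →+* F) a) =
      Matrix.GeneralLinearGroup.map ((σ * τ : F ≃+* F) : F →+* F) a := by
  refine Units.ext ?_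
  ext i j
  rfl

theorem GLmap_one (a : GLd) : Matrix.GeneralLinearGroup.map ((1 : F ≃+* F) : F →+* F) a = a := by
  refine Units.ext ?_
  ext i j
  rfl

theorem normTo_succ (σ : F ≃+* F) (g : GLd) (i : ℕ) :
    normTo σ g (i + 1) = normTo σ g i * Matrix.GeneralLinearGroup.map ((σ ^ i : F ≃+* F) : F →+* F) g := by
  induction i with
  | zero => simp [normTo, GLmap_one]
  | succ i ih =>
    conv_lhs => rw [normTo, ih, GLmap_mul, GLmap_GLmap, ← pow_succ', ← mul_assoc]
    rfl

/-- The bound for inner-diagonal and field automorphisms, in terms of the fixed field. -/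
theorem field_bound (hn : 2 ≤ d) (σ : F ≃+* F) (g : GLd) :
    (Nat.card (fixF σ) - 1) * orderOf (δ g * fld σ : MulAut PSLd) ≤
      orderOf σ * (Nat.card (fixF σ) ^ d - 1) := by
  classical
  haveI : NeZero d := ⟨by omega⟩
  haveI : Finite (F ≃+* F) := Finite.of_injective (fun τ => (τ : F → F)) DFunLike.coe_injective
  haveI : Finite (MulAut PSLd) := Finite.of_injective _ MulEquiv.toEquiv_injective
  set e := orderOf σ with he
  set N := normTo σ g e with hN
  have hpow : (δ g * fld σ : MulAut PSLd) ^ e = δ N := by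
    rw [pow_semilinear, he, pow_orderOf_eq_one, map_one, mul_one]
  have hcomm : g * Matrix.GeneralLinearGroup.map (σ : F →+* F) N = N * g := by
    show normTo σ g (e + 1) = _
    rw [normTo_succ, he, pow_orderOf_eq_one, GLmap_one]
  have hmapN : ((N : Md).map (σ : F →+* F)) = (↑g⁻¹ : Md) * (N : Md) * (g : Md) := by
    show ((Matrix.GeneralLinearGroup.map (σ : F →+* F) N : GLd) : Md) = _
    rw [eq_inv_mul_iff_mul_eq.2 hcomm, ← mul_assoc]
    simp
  have hχ : (N : Md).charpoly.map (σ : F →+* F) = (N : Md).charpoly := by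
    rw [← Matrix.charpoly_map, hmapN, Matrix.charpoly_mul_comm, ← mul_assoc, Units.mul_inv, one_mul]
  have hlift : (N : Md).charpoly ∈ Polynomial.lifts (fixF σ).subtype := by
    refine (Polynomial.lifts_iff_coeff_lifts _).2 fun n => ?_
    refine ⟨⟨(N : Md).charpoly.coeff n, (mem_fixF_iff σ _).2 ?_⟩, rfl⟩
    conv_rhs => rw [← hχ, Polynomial.coeff_map]
    rfl
  obtain ⟨P, hP, hPdeg, hPm⟩ := Polynomial.lifts_and_degree_eq_and_monic hlift (Matrix.charpoly_monic _)
  have hb := bound_of_poly hn N (fixF σ) P hPm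
    (by rw [natDegree_eq_of_degree_eq hPdeg, Matrix.charpoly_natDegree_eq_dim, Fintype.card_fin])
    (by
      rw [← aeval_map_algebraMap F, show (algebraMap (fixF σ) F) = (fixF σ).subtype from rfl, hP]
      exact Matrix.aeval_self_charpoly _)
  calc (Nat.card (fixF σ) - 1) * orderOf (δ g * fld σ : MulAut PSLd)
      ≤ (Nat.card (fixF σ) - 1) * (e * orderOf (δ N : MulAut PSLd)) := by
        refine Nat.mul_le_mul_left _ ?_
        rw [← hpow]
        exact orderOf_le_mul _ (orderOf_pos σ)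
    _ = e * ((Nat.card (fixF σ) - 1) * orderOf (δ N : MulAut PSLd)) := by ring
    _ ≤ _ := Nat.mul_le_mul_left _ hb

/-- The bound for inner-diagonal and field automorphisms. -/
theorem field_bound_gsum (hn : 2 ≤ d) (σ : F ≃+* F) (g : GLd) :
    orderOf (δ g * fld σ : MulAut PSLd) ≤ orderOf σ * gsum (Nat.card (fixF σ)) d := by
  have hc := (card_fixF σ).1
  have h := field_bound hn σ g
  rw [← gsum_mul, Nat.mul_left_comm] at h
  exact Nat.le_of_mul_le_mul_left h (by omega)

theorem field_main (hn : 2 ≤ d) (h24 : ¬ (d = 2 ∧ Nat.card F = 4)) (σ : F ≃+* F) (g : GLd) :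
    orderOf (δ g * fld σ : MulAut PSLd) ≤ gsum (Nat.card F) d := by
  haveI : Finite (F ≃+* F) := Finite.of_injective (fun τ => (τ : F → F)) DFunLike.coe_injective
  obtain ⟨hc, he⟩ := card_fixF σ
  refine (field_bound_gsum hn σ g).trans ?_
  rw [← he]
  refine field_arith hc (orderOf_pos σ) hn ?_
  rintro ⟨h1, h2, h3⟩
  exact h24 ⟨h3, by rw [← he, h1, h2]; rfl⟩

end CfsgLib.KnownB.MaxAutOrder
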