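import Cfsg.Agent.Lib.KnownB.MaxAutOrder.Units
import Cfsg.Agent.Lib.KnownB.MaxAutOrder.Field

/-!
# Orders of graph and graph-field automorphisms of `PSL`
-/

set_option autoImplicit false
set_option linter.style.haveILetI false
set_option linter.unusedSectionVars false

namespace CfsgLib.KnownB.MaxAutOrder

open CfsgLib.KnownB.PSLAut

variable {d : ℕ} {F : Type*} [Field F] [Finite F]

local notation "Md" => Matrix (Fin d) (Fin d) F
local notation "PSLd" => Matrix.ProjectiveSpecialLinearGroup (Fin d) F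
local notation "GLd" => GL (Fin d) F

/-- The matrix of the square of `δ g * fld σ * it`. -/
def sqMat (σ : F ≃+* F) (g : GLd) : GLd := g * Matrix.GeneralLinearGroup.map (σ : F →+* F) (itGL g)

theorem graph_sq (σ : F ≃+* F) (g : GLd) :
    (δ g * fld σ * it : MulAut PSLd) ^ 2 = δ (sqMat σ g) * fld (σ ^ 2) := by
  rw [sq, sq, map_mul fld, sqMat, map_mul δ]
  calc (δ g * fld σ * it : MulAut PSLd) * (δ g * fld σ * it)
      = δ g * fld σ * (it * δ g) * fld σ * it := by simp only [mul_assoc]
    _ = δ g * (fld σ * δ (itGL g)) * (it * fld σ) * it := by rw [it_δ]; simp only [mul_assoc]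
    _ = δ g * (δ (Matrix.GeneralLinearGroup.map (σ : F →+* F) (itGL g)) * fld σ) * (fld σ * it) * it := by
        rw [fld_δ, it_fld]
    _ = _ := by simp only [mul_assoc, it_mul_self, mul_one]

/-- The semilinear anti-automorphism belonging to `δ g * fld σ * it`. -/
def iota (σ : F ≃+* F) (g : GLd) (M : Md) : Md := (g : Md) * (M.map σ).transpose * (↑g⁻¹ : Md)

section iota

variable (σ : F ≃+* F) (g : GL (Fin d) F)

theorem iota_add (A B : Md) : iota σ g (A + B) = iota σ g A + iota σ g B := by
  simp only [iota, Matrix.map_add σ (map_add σ), Matrix.transpose_add, mul_add, add_mul]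

theorem iota_smul (a : F) (A : Md) : iota σ g (a • A) = σ a • iota σ g A := by
  simp only [iota, Matrix.map_smul' σ a A (map_mul σ), Matrix.transpose_smul, Matrix.mul_smul, Matrix.smul_mul]

theorem iota_one : iota σ g 1 = 1 := by
  simp [iota, Matrix.map_one σ (map_zero σ) (map_one σ)]

theorem iota_zero : iota σ g 0 = 0 := by
  simp [iota, Matrix.map_zero σ (map_zero σ)]

theorem iota_mul (A B : Md) : iota σ g (A * B) = iota σ g B * iota σ g A := by
  have h : (A * B).map σ = A.map σ * B.map σ := Matrix.map_mul (f := (σ : F →+* F))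
  simp only [iota, h, Matrix.transpose_mul, mul_assoc]
  rw [← mul_assoc (↑g⁻¹ : Md) (g : Md), Units.inv_mul, one_mul]

theorem iota_sum {κ : Type*} (s : Finset κ) (f : κ → Md) :
    iota σ g (∑ i ∈ s, f i) = ∑ i ∈ s, iota σ g (f i) := by
  classical
  induction s using Finset.induction_on with
  | empty => simp [iota_zero]
  | insert a s ha ih => rw [Finset.sum_insert ha, Finset.sum_insert ha, iota_add, ih]

theorem iota_sqMat (hσ : ∀ a, σ (σ a) = a) :
    iota σ g (sqMat σ g : Md) = ((sqMat σ g)⁻¹ : GLd) := by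
  have h1 : ∀ A B : Md, (A * B).map σ = A.map σ * B.map σ := fun A B => Matrix.map_mul (f := (σ : F →+* F))
  have h2 : ∀ A : Md, (A.map σ).map σ = A := fun A => by ext i j; exact hσ _
  have hN : (sqMat σ g : Md) = (g : Md) * ((↑g⁻¹ : Md).transpose).map σ := rfl
  have hN' : (((sqMat σ g)⁻¹ : GLd) : Md) = ((g : Md).transpose).map σ * (↑g⁻¹ : Md) := rfl
  rw [hN', iota, hN, h1, h2, Matrix.transpose_mul, Matrix.transpose_transpose, ← mul_assoc,
    Units.mul_inv, one_mul, Matrix.transpose_map]

theorem iota_inv (hσ : ∀ a, σ (σ a) = a) :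
    iota σ g (((sqMat σ g)⁻¹ : GLd) : Md) = (sqMat σ g : Md) := by
  have h := iota_mul σ g (sqMat σ g : Md) (((sqMat σ g)⁻¹ : GLd) : Md)
  rw [Units.mul_inv, iota_one, iota_sqMat σ g hσ] at h
  exact Units.mul_eq_one_iff_eq_inv.1 h.symm |>.trans (by rw [inv_inv])

theorem iota_pow (hσ : ∀ a, σ (σ a) = a) (i : ℕ) :
    iota σ g ((sqMat σ g : Md) ^ i) = (((sqMat σ g)⁻¹ : GLd) : Md) ^ i := by
  induction i with
  | zero => simp [iota_one]
  | succ i ih => rw [pow_succ', iota_mul, ih, iota_sqMat σ g hσ, pow_succ]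

end iota

theorem inv_mem_adjoin (N : GLd) : ((N⁻¹ : GLd) : Md) ∈ Algebra.adjoin F {(N : Md)} := by
  have h : (N⁻¹ : GLd) = N ^ (orderOf N - 1) := by
    rw [inv_eq_iff_mul_eq_one, ← pow_succ', Nat.sub_add_cancel (orderOf_pos N), pow_orderOf_eq_one]
  rw [h, Units.val_pow_eq_pow_val]
  exact Subalgebra.pow_mem _ (Algebra.self_mem_adjoin_singleton F _) _

theorem adjoin_subset_range (N : GLd) :
    (Algebra.adjoin F {(N : Md)} : Set Md) ⊆
      Set.range fun a : Fin d → F => ∑ i : Fin d, a i • (N : Md) ^ (i : ℕ) := by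
  rintro M hM
  rw [SetLike.mem_coe, Algebra.adjoin_singleton_eq_range_aeval] at hM
  obtain ⟨P, rfl⟩ := hM
  rcases Nat.eq_zero_or_pos d with rfl | hd
  · exact ⟨0, Subsingleton.elim _ _⟩
  haveI : NeZero d := ⟨by omega⟩
  refine ⟨fun i => (P %ₘ (N : Md).charpoly).coeff i, ?_⟩
  have h1 : (P %ₘ (N : Md).charpoly).natDegree < d := by
    have := Polynomial.natDegree_modByMonic_lt P (Matrix.charpoly_monic (N : Md)) (fun h => by
      have := congrArg Polynomial.natDegree h
      rw [Matrix.charpoly_natDegree_eq_dim, Fintype.card_fin, Polynomial.natDegree_one] at this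
      omega)
    rwa [Matrix.charpoly_natDegree_eq_dim, Fintype.card_fin] at this
  show _ = Polynomial.aeval (N : Md) P
  conv_rhs => rw [← Polynomial.modByMonic_add_div P (N : Md).charpoly]
  rw [map_add, map_mul, Matrix.aeval_self_charpoly, zero_mul, add_zero,
    Polynomial.aeval_eq_sum_range' h1, Finset.sum_range]

theorem mem_fix_of_eq {σ : F ≃+* F} (hσ : σ = 1) (a : F) : a ∈ fixF σ := by
  rw [mem_fixF_iff, hσ]; rfl

theorem two_residue {L : Type*} [CommRing L] {M : Ideal L} (hM : Nat.card (L ⧸ M) = 2)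
    {x y : L} : x + y ∈ M ↔ (x ∈ M ↔ y ∈ M) := by
  constructor
  · intro h
    exact ⟨fun hx => (M.add_mem_iff_right hx).1 h, fun hy => (M.add_mem_iff_left hy).1 h⟩
  · intro h
    by_cases hx : x ∈ M
    · exact M.add_mem hx (h.1 hx)
    · have hy : y ∉ M := fun hy => hx (h.2 hy)
      by_contra hxy
      obtain ⟨a, b, hab, hall⟩ := Nat.card_eq_two_iff.1 hM
      have hx0 : Ideal.Quotient.mk M x ≠ 0 := fun h => hx (Ideal.Quotient.eq_zero_iff_mem.1 h)
      have hy0 : Ideal.Quotient.mk M y ≠ 0 := fun h => hy (Ideal.Quotient.eq_zero_iff_mem.1 h)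
      have hz0 : Ideal.Quotient.mk M x + Ideal.Quotient.mk M y ≠ 0 := fun h =>
        hxy (Ideal.Quotient.eq_zero_iff_mem.1 (by rw [map_add]; exact h))
      have hcases : ∀ z : L ⧸ M, z ≠ 0 → z = Ideal.Quotient.mk M x := by
        intro z hz
        have h1 : z ∈ ({a, b} : Set (L ⧸ M)) := by rw [hall]; trivial
        have h2 : (0 : L ⧸ M) ∈ ({a, b} : Set (L ⧸ M)) := by rw [hall]; trivial
        have h3 : Ideal.Quotient.mk M x ∈ ({a, b} : Set (L ⧸ M)) := by rw [hall]; trivial
        rcases h1 with rfl | rfl <;> rcases h2 with h2 | h2 <;> rcases h3 with h3 | h3 <;>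
          first | exact h3.symm | exact absurd h2.symm hz | exact absurd (h3.trans h2.symm) hx0
      have h4 := hcases _ hz0
      rw [add_eq_left] at h4
      exact hy0 h4

/-- The hypotheses of the cases decided by a finite computation. -/
def IsSmall (d q o : ℕ) : Prop :=
  (q = 2 ∧ d ≤ 6) ∨ (q = 3 ∧ d ≤ 4 ∧ o = 1) ∨ (q = 4 ∧ d ≤ 4 ∧ o = 2)

section core

variable (σ : F ≃+* F) (g : GL (Fin d) F)

theorem two_mul_gsum (q d : ℕ) (hq : 2 ≤ q) : 2 * gsum q d ≤ gsum q (d + 1) := by
  rw [gsum_succ, two_mul]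
  refine Nat.add_le_add_left ?_ _
  have h := gsum_mul q d
  calc gsum q d ≤ (q - 1) * gsum q d := Nat.le_mul_of_pos_left _ (by omega)
    _ = q ^ d - 1 := h
    _ ≤ q ^ d := Nat.sub_le _ _

theorem card_adjoin_lt {N : GLd} (hd : 2 ≤ d)
    (h : Nat.card (Algebra.adjoin F {(N : Md)}) ≠ Nat.card F ^ d) :
    2 * orderOf (δ N : MulAut PSLd) ≤ gsum (Nat.card F) d := by
  classical
  set R := Algebra.adjoin F {(N : Md)}
  have hq : 2 ≤ Nat.card F := Finite.one_lt_card
  have hle : Nat.card R ≤ Nat.card F ^ d := by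
    refine (Nat.card_mono (Set.toFinite _) (adjoin_subset_range N)).trans ?_
    refine (Finite.card_range_le _).trans ?_
    rw [Nat.card_pi, Finset.prod_const, Finset.card_univ, Fintype.card_fin]
  obtain ⟨d', rfl⟩ : ∃ d', d = d' + 1 := ⟨d - 1, by omega⟩
  have hpow : Nat.card R ≤ Nat.card F ^ d' := by
    haveI : Module.Finite F R := Module.Finite.of_finite
    rw [Module.natCard_eq_pow_finrank (K := F) (V := R)] at h hle ⊢
    have h1 := (Nat.pow_le_pow_iff_right hq).1 hle
    refine Nat.pow_le_pow_right (by omega) ?_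
    by_contra h2
    exact h (by congr 1; omega)
  have h1 := card_lift_le hd N ⊤ (R : Set (Matrix (Fin (d' + 1)) (Fin (d' + 1)) F)) fun c i =>
    Subalgebra.smul_mem _ (Subalgebra.pow_mem _ (Algebra.self_mem_adjoin_singleton F _) _) _
  rw [Nat.card_congr (Subfield.topEquiv (K := F)).toEquiv, ← Nat.card_coe_set_eq] at h1
  have h2 : (Nat.card F - 1) * orderOf (δ N : MulAut _) ≤ (Nat.card F - 1) * gsum (Nat.card F) d' := by
    rw [gsum_mul]; exact h1.trans (Nat.sub_le_sub_right hpow 1)
  have h3 := Nat.le_of_mul_le_mul_left h2 (by omega)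
  exact le_trans (Nat.mul_le_mul_left 2 h3) (two_mul_gsum _ _ hq)

set_option maxHeartbeats 1600000 in
/-- The main counting argument for `σ * σ = 1`. -/
theorem half_bound (hd : 3 ≤ d) (hσ : σ ^ 2 = 1) (hsmall : ¬ IsSmall d (Nat.card F) (orderOf σ))
    (hfull : Nat.card (Algebra.adjoin F {(sqMat σ g : Md)}) = Nat.card F ^ d) :
    2 * orderOf (δ (sqMat σ g) : MulAut PSLd) ≤ gsum (Nat.card F) d := by
  classical
  haveI : NeZero d := ⟨by omega⟩
  haveI : Finite (F ≃+* F) := Finite.of_injective (fun τ => (τ : F → F)) DFunLike.coe_injective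
  haveI : Finite (MulAut PSLd) := Finite.of_injective _ MulEquiv.toEquiv_injective
  have hσσ : ∀ a, σ (σ a) = a := fun a => by
    have h := congrArg (fun τ : F ≃+* F => τ a) hσ
    simpa [sq] using h
  obtain ⟨θ, hθ0, hθ⟩ : ∃ θ : F, (σ = 1 → θ = 0) ∧ (σ ≠ 1 → σ θ ≠ θ) := by
    by_cases h : σ = 1
    · exact ⟨0, fun _ => rfl, fun h' => absurd h h'⟩
    · by_contra hc
      refine h (RingEquiv.ext fun x => ?_)
      by_contra hx
      exact hc ⟨x, fun h' => absurd h' h, fun _ => hx⟩
  set N := sqMat σ g with hN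
  set K := fixF σ with hK
  set R := Algebra.adjoin F {(N : Md)} with hR
  let a : Md := (N : Md) + ((N⁻¹ : GLd) : Md)
  let b : Md := θ • (N : Md) + σ θ • ((N⁻¹ : GLd) : Md)
  let L : Subalgebra K Md := Algebra.adjoin K {a, b}
  have hNR : (N : Md) ∈ R := Algebra.self_mem_adjoin_singleton F _
  have hN'R : ((N⁻¹ : GLd) : Md) ∈ R := inv_mem_adjoin N
  have hRcomm : ∀ x ∈ R, ∀ y ∈ R, x * y = y * x := by
    intro x hx y hy
    rw [hR, Algebra.adjoin_singleton_eq_range_aeval] at hx hy
    obtain ⟨P, rfl⟩ := hx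
    obtain ⟨Q, rfl⟩ := hy
    exact (map_mul _ P Q).symm.trans ((congrArg _ (mul_comm P Q)).trans (map_mul _ Q P))
  have haL : a ∈ L := Algebra.subset_adjoin (Set.mem_insert _ _)
  have hbL : b ∈ L := Algebra.subset_adjoin (Set.mem_insert_of_mem _ (Set.mem_singleton _))
  have hL : ∀ x ∈ L, x ∈ R ∧ iota σ g x = x := by
    intro x hx
    induction hx using Algebra.adjoin_induction with
    | mem x hx =>
      rcases hx with rfl | rfl
      · exact ⟨add_mem hNR hN'R, by
          rw [iota_add, iota_sqMat σ g hσσ, iota_inv σ g hσσ, add_comm]⟩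
      · exact ⟨add_mem (Subalgebra.smul_mem _ hNR _) (Subalgebra.smul_mem _ hN'R _), by
          rw [iota_add, iota_smul, iota_smul, iota_sqMat σ g hσσ, iota_inv σ g hσσ, hσσ, add_comm]⟩
    | algebraMap k =>
      have e : (algebraMap K Md k) = (k : F) • (1 : Md) := Algebra.algebraMap_eq_smul_one k
      rw [e]
      exact ⟨Subalgebra.smul_mem _ (one_mem _) _, by rw [iota_smul, iota_one, (mem_fixF_iff σ _).1 k.2]⟩
    | add x y _ _ hx hy => exact ⟨add_mem hx.1 hy.1, by rw [iota_add, hx.2, hy.2]⟩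
    | mul x y _ _ hx hy => exact ⟨mul_mem hx.1 hy.1, by rw [iota_mul, hx.2, hy.2, hRcomm _ hy.1 _ hx.1]⟩
  letI : CommRing L :=
    { (inferInstance : Ring L) with
      mul_comm := fun x y => Subtype.ext (hRcomm _ (hL _ x.2).1 _ (hL _ y.2).1) }
  have hKsmul : ∀ (k : F), k ∈ K → ∀ x ∈ L, k • x ∈ L := fun k hk x hx => L.smul_mem hx (⟨k, hk⟩ : K)
  -- `R ≤ L + t L`
  let t : Md → Md := fun y => if σ = 1 then (N : Md) * y else θ • y
  have hspan : (R : Set Md) ⊆ Set.range fun z : L × L => (z.1 : Md) + t z.2 := by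
    by_cases h1 : σ = 1
    · have ht : ∀ y, t y = (N : Md) * y := fun y => if_pos h1
      have hNN : (N : Md) * N = (N : Md) * a - 1 := by
        simp only [a, mul_add, Units.mul_inv, add_sub_cancel_right]
      let S : Subalgebra F Md :=
        { carrier := {M | ∃ x ∈ L, ∃ y ∈ L, M = x + (N : Md) * y}
          algebraMap_mem' := fun c => ⟨c • 1, hKsmul c (mem_fix_of_eq h1 c) _ (one_mem _), 0, zero_mem _, by
            rw [mul_zero, add_zero, Algebra.algebraMap_eq_smul_one]⟩
          zero_mem' := ⟨0, zero_mem _, 0, zero_mem _, by rw [mul_zero, add_zero]⟩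
          one_mem' := ⟨1, one_mem _, 0, zero_mem _, by rw [mul_zero, add_zero]⟩
          add_mem' := by
            rintro _ _ ⟨x, hx, y, hy, rfl⟩ ⟨x', hx', y', hy', rfl⟩
            exact ⟨x + x', add_mem hx hx', y + y', add_mem hy hy', by rw [mul_add]; abel⟩
          mul_mem' := by
            rintro _ _ ⟨x, hx, y, hy, rfl⟩ ⟨x', hx', y', hy', rfl⟩
            refine ⟨x * x' - y * y', sub_mem (mul_mem hx hx') (mul_mem hy hy'),
              x * y' + y * x' + a * (y * y'), add_mem (add_mem (mul_mem hx hy') (mul_mem hy hx'))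
                (mul_mem haL (mul_mem hy hy')), ?_⟩
            have cx := hRcomm _ (hL _ hx).1 _ hNR
            have cy := hRcomm _ (hL _ hy).1 _ hNR
            have e1 : x * ((N : Md) * y') = (N : Md) * (x * y') := by rw [← mul_assoc, cx, mul_assoc]
            have e2 : (N : Md) * y * ((N : Md) * y') = (N : Md) * N * (y * y') := by
              rw [mul_assoc, ← mul_assoc y, cy]; simp only [mul_assoc]
            rw [add_mul, mul_add, mul_add, e1, e2, hNN, sub_mul, one_mul, mul_assoc (N : Md) a,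
              mul_add, mul_add, mul_assoc (N : Md) y x']
            abel }
      have : R ≤ S := Algebra.adjoin_le (Set.singleton_subset_iff.2
        ⟨0, zero_mem _, 1, one_mem _, by rw [zero_add, mul_one]⟩)
      intro M hM
      obtain ⟨x, hx, y, hy, rfl⟩ := this hM
      exact ⟨(⟨x, hx⟩, ⟨y, hy⟩), by simp only [ht]⟩
    · have ht : ∀ y, t y = θ • y := fun y => if_neg h1
      have hne : θ - σ θ ≠ 0 := sub_ne_zero.2 (hθ h1).symm
      have hp : θ + σ θ ∈ K := (mem_fixF_iff σ _).2 (by rw [map_add, hσσ, add_comm])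
      have hr : θ * σ θ ∈ K := (mem_fixF_iff σ _).2 (by rw [map_mul, hσσ, mul_comm])
      let S : Subalgebra F Md :=
        { carrier := {M | ∃ x ∈ L, ∃ y ∈ L, M = x + θ • y}
          algebraMap_mem' := fun c => by
            set v := (c - σ c) / (θ - σ θ) with hv
            have hvK : v ∈ K := (mem_fixF_iff σ _).2 (by
              rw [hv, map_div₀, map_sub, map_sub, hσσ, hσσ, ← neg_sub c, ← neg_sub θ, neg_div_neg_eq])
            have huK : c - θ * v ∈ K := (mem_fixF_iff σ _).2 (by
              rw [map_sub, map_mul, (mem_fixF_iff σ _).1 hvK]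
              have : (θ - σ θ) * v = c - σ c := by rw [hv]; field_simp
              linear_combination this)
            refine ⟨(c - θ * v) • 1, hKsmul _ huK _ (one_mem _), v • 1, hKsmul _ hvK _ (one_mem _), ?_⟩
            rw [Algebra.algebraMap_eq_smul_one, smul_smul, ← add_smul, sub_add_cancel]
          zero_mem' := ⟨0, zero_mem _, 0, zero_mem _, by rw [smul_zero, add_zero]⟩
          one_mem' := ⟨1, one_mem _, 0, zero_mem _, by rw [smul_zero, add_zero]⟩
          add_mem' := by
            rintro _ _ ⟨x, hx, y, hy, rfl⟩ ⟨x', hx', y', hy', rfl⟩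
            exact ⟨x + x', add_mem hx hx', y + y', add_mem hy hy', by rw [smul_add]; abel⟩
          mul_mem' := by
            rintro _ _ ⟨x, hx, y, hy, rfl⟩ ⟨x', hx', y', hy', rfl⟩
            refine ⟨x * x' - (θ * σ θ) • (y * y'), sub_mem (mul_mem hx hx') (hKsmul _ hr _ (mul_mem hy hy')),
              x * y' + y * x' + (θ + σ θ) • (y * y'), add_mem (add_mem (mul_mem hx hy') (mul_mem hy hx'))
                (hKsmul _ hp _ (mul_mem hy hy')), ?_⟩
            simp only [add_mul, mul_add, smul_add, smul_smul, Matrix.smul_mul, Matrix.mul_smul, add_smul]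
            abel }
      have hNS : (N : Md) ∈ S := by
        have h2 : b + (-σ θ) • a = (θ - σ θ) • (N : Md) := by
          simp only [a, b, smul_add, sub_smul, neg_smul]; abel
        have h3 : b + (-σ θ) • a ∈ S :=
          add_mem ⟨b, hbL, 0, zero_mem _, by rw [smul_zero, add_zero]⟩
            (S.smul_mem ⟨a, haL, 0, zero_mem _, by rw [smul_zero, add_zero]⟩ _)
        rw [h2] at h3
        have := S.smul_mem h3 (θ - σ θ)⁻¹
        rwa [inv_smul_smul₀ hne] at this
      have : R ≤ S := Algebra.adjoin_le (Set.singleton_subset_iff.2 hNS)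
      intro M hM
      obtain ⟨x, hx, y, hy, rfl⟩ := this hM
      exact ⟨(⟨x, hx⟩, ⟨y, hy⟩), by simp only [ht]⟩
  have hLsq : Nat.card F ^ d ≤ Nat.card L ^ 2 := by
    rw [← hfull]
    refine (Nat.card_mono (Set.toFinite _) hspan).trans ((Finite.card_range_le _).trans ?_)
    rw [Nat.card_prod, sq]
  -- the group of fixed units and its image
  obtain ⟨hc2, hce⟩ := card_fixF σ
  set c := Nat.card K with hc
  let jL : Lˣ →* GLd := Units.map (L.val : L →* Md)
  let W : Subgroup (MulAut PSLd) := ((δ : GLd →* MulAut PSLd).comp jL).range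
  have hk : Nat.card Lˣ ≤ Nat.card W * (c - 1) := by
    rw [← Subgroup.index_ker ((δ : GLd →* MulAut PSLd).comp jL),
      ← ((δ : GLd →* MulAut PSLd).comp jL).ker.card_mul_index, mul_comm]
    refine Nat.mul_le_mul_left _ ?_
    haveI := Fintype.ofFinite K
    have hsub : Nat.card {x : K // x ≠ 0} = c - 1 := by
      rw [hc, Nat.card_eq_fintype_card, Fintype.card_subtype_compl, Fintype.card_subtype_eq, Nat.card_eq_fintype_card]
    rw [← hsub]
    have hscal : ∀ u : ((δ : GLd →* MulAut PSLd).comp jL).ker, ∃ x : {x : K // x ≠ 0},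
        (((u : Lˣ) : L) : Md) = ((x : K) : F) • (1 : Md) := by
      rintro ⟨u, hu⟩
      obtain ⟨s, hs, hs'⟩ := (δ_eq_one_iff (by omega) (jL u)).1 hu
      change ((u : L) : Md) = _ at hs'
      have hfix := (hL _ (u : L).2).2
      rw [hs', iota_smul, iota_one] at hfix
      have : σ s = s := smul_left_injective F (one_ne_zero (α := Md)) hfix
      exact ⟨⟨⟨s, (mem_fixF_iff σ _).2 this⟩, fun h => hs (congrArg Subtype.val h)⟩, hs'⟩
    choose f hf using hscal
    refine Nat.card_le_card_of_injective f fun u v h => ?_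
    apply Subtype.ext
    apply Units.ext
    apply Subtype.ext
    rw [hf u, hf v, h]
  -- three elements
  have hk3 : 3 ≤ Nat.card W := by
    by_contra hcon
    have hW1 : 1 ≤ Nat.card W := Nat.card_pos
    haveI : Finite L := Finite.of_injective _ Subtype.val_injective
    haveI : Module.Finite K L := Module.Finite.of_finite
    obtain ⟨h, hh⟩ : ∃ h, Nat.card L = c ^ h := ⟨_, Module.natCard_eq_pow_finrank⟩
    have hlow : (c - 1) ^ h ≤ Nat.card Lˣ := pow_le_card_units (K := K) hh.ge
    have he : orderOf σ ≤ 2 ∧ 1 ≤ orderOf σ := ⟨orderOf_le_of_pow_eq_one (by norm_num) hσ, orderOf_pos σ⟩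
    rw [← hce, ← pow_mul, hh, ← pow_mul] at hLsq
    have hh2 := (Nat.pow_le_pow_iff_right hc2).1 hLsq
    have hW2 : Nat.card Lˣ ≤ 2 * (c - 1) := hk.trans (Nat.mul_le_mul_right _ (by omega))
    have hcases : orderOf σ = 1 ∨ orderOf σ = 2 := by omega
    rcases eq_or_lt_of_le hc2 with hceq | hc3
    · -- `c = 2`
      have hK2 : Nat.card K = 2 := hceq.symm
      have hres : ∀ M M' : MaximalSpectrum L, Nat.card (L ⧸ M.asIdeal) = 2 → Nat.card (L ⧸ M'.asIdeal) = 2 →
          ((⟨a, haL⟩ : L) ∈ M.asIdeal ↔ (⟨a, haL⟩ : L) ∈ M'.asIdeal) →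
          ((⟨b, hbL⟩ : L) ∈ M.asIdeal ↔ (⟨b, hbL⟩ : L) ∈ M'.asIdeal) → M = M' := by
        intro M M' h2 h2' ha hb
        have key : ∀ x (hx : x ∈ L), ((⟨x, hx⟩ : L) ∈ M.asIdeal ↔ (⟨x, hx⟩ : L) ∈ M'.asIdeal) := by
          intro x hx
          induction hx using Algebra.adjoin_induction with
          | mem x hx => rcases hx with rfl | rfl; exacts [ha, hb]
          | algebraMap k =>
            rcases eq_or_ne k 0 with rfl | hk0
            · simp only [map_zero]
              exact iff_of_true M.asIdeal.zero_mem M'.asIdeal.zero_mem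
            · have hunit : IsUnit (⟨algebraMap K Md k, L.algebraMap_mem k⟩ : L) :=
                (IsUnit.mk0 k hk0).map (algebraMap K L)
              exact iff_of_false (fun h => M.isMaximal.ne_top (Ideal.eq_top_of_isUnit_mem _ h hunit))
                (fun h => M'.isMaximal.ne_top (Ideal.eq_top_of_isUnit_mem _ h hunit))
          | add x y hx hy ihx ihy =>
            show (⟨x, hx⟩ + ⟨y, hy⟩ : L) ∈ _ ↔ (⟨x, hx⟩ + ⟨y, hy⟩ : L) ∈ _
            rw [two_residue h2, two_residue h2', ihx, ihy]
          | mul x y hx hy ihx ihy =>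
            show (⟨x, hx⟩ * ⟨y, hy⟩ : L) ∈ _ ↔ (⟨x, hx⟩ * ⟨y, hy⟩ : L) ∈ _
            haveI := M.isMaximal.isPrime
            haveI := M'.isMaximal.isPrime
            rw [Ideal.IsPrime.mul_mem_iff_mem_or_mem inferInstance,
              Ideal.IsPrime.mul_mem_iff_mem_or_mem inferInstance, ihx, ihy]
        exact MaximalSpectrum.ext (Ideal.ext fun x => key x.1 x.2)
      let β : {M : MaximalSpectrum L // Nat.card (L ⧸ M.asIdeal) = 2} → Bool × Bool := fun M =>
        (decide ((⟨a, haL⟩ : L) ∈ M.1.asIdeal), decide ((⟨b, hbL⟩ : L) ∈ M.1.asIdeal))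
      have hβ : Function.Injective β := fun M M' h => by
        obtain ⟨h1, h2⟩ := Prod.ext_iff.1 h
        exact Subtype.ext (hres _ _ M.2 M'.2 (decide_eq_decide.1 h1) (decide_eq_decide.1 h2))
      haveI := Fintype.ofFinite {M : MaximalSpectrum L // Nat.card (L ⧸ M.asIdeal) = 2}
      rcases hcases with he1 | he2
      · have h1 : σ = 1 := orderOf_eq_one_iff.1 he1
        have hb0 : ∀ M, (β M).2 = true := fun M => by
          have hz : b = 0 := by simp [b, hθ0 h1]
          simp only [β, decide_eq_true_eq]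
          have : (⟨b, hbL⟩ : L) = 0 := Subtype.ext hz
          rw [this]; exact M.1.asIdeal.zero_mem
        have hb2 : Nat.card {M : MaximalSpectrum L // Nat.card (L ⧸ M.asIdeal) = 2} ≤ 2 := by
          refine (Nat.card_le_card_of_injective (fun M => (β M).1) fun M M' h => hβ (Prod.ext h
            ((hb0 M).trans (hb0 M').symm))).trans ?_
          simp
        have hq : Nat.card F = 2 := by rw [← hce, he1, pow_one, ← hceq]
        have hcube := card_sq_le_units_cube hK2 hb2
        rw [hh, ← hceq] at hcube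
        have hd7 : 7 ≤ d := by
          by_contra hlt; exact hsmall (Or.inl ⟨hq, by omega⟩)
        rw [← hceq] at hW2
        have h5 : 2 ^ 4 ≤ (2 : ℕ) ^ h := Nat.pow_le_pow_right (by norm_num) (by rw [he1] at hh2; omega)
        have h6 := Nat.pow_le_pow_left hW2 3
        nlinarith
      · have h1 : σ ≠ 1 := fun h => by rw [h, orderOf_one] at he2; omega
        have hnb : ∀ M, β M ≠ (true, true) := by
          intro M hM
          simp only [β, Prod.mk.injEq, decide_eq_true_eq] at hM
          have hK01 : ∀ z : F, z ∈ K → z = 0 ∨ z = 1 := by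
            intro z hz
            by_contra hne
            push Not at hne
            haveI := Fintype.ofFinite K
            rw [Nat.card_eq_fintype_card] at hK2
            have : ({(0 : K), 1, ⟨z, hz⟩} : Finset K).card ≤ 2 := hK2 ▸ Finset.card_le_univ _
            rw [Finset.card_eq_three.2 ⟨0, 1, ⟨z, hz⟩, zero_ne_one,
              fun h => hne.1 (congrArg Subtype.val h).symm, fun h => hne.2 (congrArg Subtype.val h).symm, rfl⟩] at this
            omega
          have h2F : (2 : F) = 0 := by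
            rcases hK01 (1 + 1) (K.add_mem K.one_mem K.one_mem) with h | h
            · rw [← one_add_one_eq_two]; exact h
            · exact absurd (add_eq_left.1 h) one_ne_zero
          have hsum : θ + σ θ = 1 := by
            rcases hK01 (θ + σ θ) ((mem_fixF_iff σ _).2 (by rw [map_add, hσσ, add_comm])) with h | h
            · exact absurd (by linear_combination h - θ * h2F) (hθ h1)
            · exact h
          have hprod : θ * σ θ = 1 := by
            rcases hK01 (θ * σ θ) ((mem_fixF_iff σ _).2 (by rw [map_mul, hσσ, mul_comm])) with h | h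
            · rcases mul_eq_zero.1 h with h | h
              · exact absurd (by rw [h, map_zero]) (hθ h1)
              · have : θ = 0 := by rw [← hσσ θ, h, map_zero]
                exact absurd (by rw [this, map_zero]) (hθ h1)
            · exact h
          have hone : b * (a + b) + a * a = 1 := by
            have e1 : (N : Md) * ((N⁻¹ : GLd) : Md) = 1 := Units.mul_inv _
            have e2 : ((N⁻¹ : GLd) : Md) * (N : Md) = 1 := Units.inv_mul _
            simp only [a, b, mul_add, add_mul, Matrix.smul_mul, Matrix.mul_smul, smul_smul, e1, e2]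
            match_scalars <;>
              first
                | linear_combination θ * hsum - hprod + θ * h2F
                | linear_combination σ θ * hsum - hprod + σ θ * h2F
                | linear_combination hsum + (θ * σ θ + 1) * h2F
          have h1M : (1 : L) ∈ M.1.asIdeal := by
            have e : (1 : L) = ⟨b, hbL⟩ * (⟨a, haL⟩ + ⟨b, hbL⟩) + ⟨a, haL⟩ * ⟨a, haL⟩ := Subtype.ext hone.symm
            rw [e]
            exact add_mem (M.1.asIdeal.mul_mem_right _ hM.2) (M.1.asIdeal.mul_mem_right _ hM.1)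
          exact M.1.isMaximal.ne_top ((Ideal.eq_top_iff_one _).2 h1M)
        have hb3 : Nat.card {M : MaximalSpectrum L // Nat.card (L ⧸ M.asIdeal) = 2} ≤ 3 := by
          refine (Nat.card_le_card_of_injective (fun M => (⟨β M, hnb M⟩ : {p : Bool × Bool // p ≠ (true, true)}))
            fun M M' h => hβ (congrArg Subtype.val h)).trans ?_
          rw [Nat.card_eq_fintype_card]; decide
        have hq : Nat.card F = 4 := by rw [← hce, he2, ← hceq]; rfl
        have hcube := card_sq_le_units_cube hK2 hb3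
        rw [hh, ← hceq] at hcube
        have hd5 : 5 ≤ d := by
          by_contra hlt; exact hsmall (Or.inr (Or.inr ⟨hq, by omega, he2⟩))
        rw [← hceq] at hW2
        have h5 : 2 ^ 5 ≤ (2 : ℕ) ^ h := Nat.pow_le_pow_right (by norm_num) (by rw [he2] at hh2; omega)
        have h6 := Nat.pow_le_pow_left hW2 3
        nlinarith
    · -- `3 ≤ c`
      have hdh : d ≤ h * 2 := le_trans (Nat.le_mul_of_pos_left d he.2) hh2
      have h1 : 1 ≤ h := by omega
      obtain ⟨h', rfl⟩ : ∃ h', h = h' + 1 := ⟨h - 1, by omega⟩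
      rw [pow_succ] at hlow
      have h2 : (c - 1) ^ h' ≤ 2 := Nat.le_of_mul_le_mul_right (hlow.trans hW2) (by omega)
      rcases Nat.lt_or_ge h' 2 with hlt | hge
      · obtain rfl : h' = 1 := by omega
        rcases hcases with he1 | he2
        · have hq : Nat.card F = c := by rw [← hce, he1, pow_one]
          rw [he1] at hh2
          rw [pow_one] at h2
          exact hsmall (Or.inr (Or.inl ⟨by omega, by omega, he1⟩))
        · rw [he2] at hh2; omega
      · have : 2 ^ 2 ≤ (c - 1) ^ h' := (Nat.pow_le_pow_left (by omega) 2).trans (Nat.pow_le_pow_right (by omega) hge)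
        omega
  -- the image of the units of `R`
  let jR : Rˣ →* GLd := Units.map (R.val : R →* Md)
  let P : Subgroup (MulAut PSLd) := ((δ : GLd →* MulAut PSLd).comp jR).range
  have hP : Nat.card P * (Nat.card F - 1) ≤ Nat.card F ^ d - 1 := by
    have h1 := ((δ : GLd →* MulAut PSLd).comp jR).ker.card_mul_index
    rw [Subgroup.index_ker] at h1
    have h2 : Nat.card F - 1 ≤ Nat.card ((δ : GLd →* MulAut PSLd).comp jR).ker := by
      rw [← Nat.card_units]
      refine Nat.card_le_card_of_injective (fun u : Fˣ => (⟨Units.map (algebraMap F R : F →* R) u, ?_⟩ :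
        ((δ : GLd →* MulAut PSLd).comp jR).ker)) ?_
      · exact (δ_eq_one_iff (by omega) _).2 ⟨u, u.ne_zero, (Algebra.algebraMap_eq_smul_one (u : F) : algebraMap F Md u = _)⟩
      · intro u v h
        have h' : algebraMap F Md u = algebraMap F Md v := congrArg (fun x => (((x.1 : Rˣ) : R) : Md)) h
        exact Units.ext ((algebraMap F Md).injective h')
    have h3 : Nat.card Rˣ ≤ Nat.card R - 1 := by
      haveI := Fintype.ofFinite R
      have hinj : Nat.card Rˣ ≤ Nat.card {x : R // x ≠ 0} :=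
        Nat.card_le_card_of_injective (fun u => ⟨u, u.ne_zero⟩) fun u v h => Units.ext (congrArg Subtype.val h)
      rwa [Nat.card_eq_fintype_card (α := {x : R // x ≠ 0}), Fintype.card_subtype_compl,
        Fintype.card_subtype_eq, ← Nat.card_eq_fintype_card] at hinj
    rw [← hfull]
    calc Nat.card P * (Nat.card F - 1)
        ≤ Nat.card P * Nat.card ((δ : GLd →* MulAut PSLd).comp jR).ker := Nat.mul_le_mul_left _ h2
      _ = Nat.card Rˣ := by rw [mul_comm]; exact h1
      _ ≤ _ := h3
  let U : Subgroup (MulAut PSLd) := Subgroup.zpowers (δ N)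
  have hUP : U ≤ P := Subgroup.zpowers_le.2
    ⟨⟨⟨(N : Md), hNR⟩, ⟨_, hN'R⟩, Subtype.ext (Units.mul_inv _), Subtype.ext (Units.inv_mul _)⟩,
      congrArg δ (Units.ext rfl)⟩
  have hWP : W ≤ P := by
    rintro _ ⟨u, rfl⟩
    exact ⟨⟨⟨_, (hL _ (u : L).2).1⟩, ⟨_, (hL _ ((u⁻¹ : Lˣ) : L).2).1⟩,
      Subtype.ext (congrArg (fun z : L => (z : Md)) u.mul_inv), Subtype.ext (congrArg (fun z : L => (z : Md)) u.inv_mul)⟩,
      congrArg δ (Units.ext rfl)⟩
  have hsq : ∀ x ∈ U ⊓ W, x ^ 2 = 1 := by
    rintro x ⟨hxU, u, hu⟩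
    obtain ⟨i, rfl⟩ := (mem_powers_iff_mem_zpowers).2 hxU
    simp only [MonoidHom.comp_apply] at hu
    rw [← map_pow] at hu
    obtain ⟨s, hs, hs'⟩ := (δ_eq_iff (by omega) _ _).1 hu
    change ((N ^ i : GLd) : Md) = s • ((u : L) : Md) at hs'
    have hι := congrArg (iota σ g) hs'
    rw [iota_smul, (hL _ (u : L).2).2, Units.val_pow_eq_pow_val, iota_pow σ g hσσ, ← Units.val_pow_eq_pow_val] at hι
    have h1 : (δ (N ^ i) : MulAut PSLd) = δ ((N⁻¹) ^ i) := by
      refine (δ_eq_iff (by omega) _ _).2 ⟨σ s * s⁻¹, mul_ne_zero ((map_ne_zero σ).2 hs) (inv_ne_zero hs), ?_⟩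
      rw [hι, hs', smul_smul, mul_assoc, inv_mul_cancel₀ hs, mul_one]
    show ((δ N) ^ i) ^ 2 = 1
    rw [inv_pow, map_inv, map_pow] at h1
    rw [sq]
    exact eq_inv_iff_mul_eq_one.1 h1
  have hg : Nat.card ↥(U ⊓ W) ∣ 2 := by
    haveI : IsCyclic ↥(U ⊓ W) := Subgroup.isCyclic_of_le (inf_le_left : U ⊓ W ≤ U)
    rw [← IsCyclic.exponent_eq_card]
    exact Monoid.exponent_dvd_of_forall_pow_eq_one fun x => Subtype.ext (hsq x x.2)
  have hgk : Nat.card ↥(U ⊓ W) ∣ Nat.card W := Subgroup.card_dvd_of_le inf_le_right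
  have hrel : Nat.card U * Nat.card W ≤ Nat.card P * Nat.card ↥(U ⊓ W) := by
    have h1 : W.relIndex U ≤ W.relIndex P :=
      Subgroup.relIndex_le_of_le_right hUP Subgroup.index_ne_zero_of_finite
    have h2 : Nat.card ↥(U ⊓ W) * W.relIndex U = Nat.card U := by
      have h := ((U ⊓ W).subgroupOf U).card_mul_index
      rw [Nat.card_congr (Subgroup.subgroupOfEquivOfLe (inf_le_left : U ⊓ W ≤ U)).toEquiv] at h
      rwa [← Subgroup.inf_relIndex_left U W]
    have h3 : Nat.card W * W.relIndex P = Nat.card P := by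
      have h := (W.subgroupOf P).card_mul_index
      rwa [Nat.card_congr (Subgroup.subgroupOfEquivOfLe hWP).toEquiv] at h
    calc Nat.card U * Nat.card W = Nat.card ↥(U ⊓ W) * W.relIndex U * Nat.card W := by rw [h2]
      _ ≤ Nat.card ↥(U ⊓ W) * W.relIndex P * Nat.card W := Nat.mul_le_mul_right _ (Nat.mul_le_mul_left _ h1)
      _ = _ := by rw [← h3]; ring
  have hU : Nat.card U = orderOf (δ N : MulAut PSLd) := Nat.card_zpowers _
  rw [hU] at hrel
  have hPg : Nat.card P ≤ gsum (Nat.card F) d := by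
    rw [← gsum_mul, mul_comm] at hP
    exact Nat.le_of_mul_le_mul_left hP (by have : 1 < Nat.card F := Finite.one_lt_card; omega)
  refine le_trans ?_ hPg
  rcases (Nat.dvd_prime Nat.prime_two).1 hg with h | h <;> rw [h] at hrel hgk
  · nlinarith
  · have : 4 ≤ Nat.card W := by omega
    nlinarith

end core

end CfsgLib.KnownB.MaxAutOrder
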