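import Cfsg.Agent.Lib.KnownB.MaxAutOrder.Small
import Cfsg.Agent.Lib.KnownB.PSLAut.Main
import Mathlib.FieldTheory.Finite.Extension

/-!
# The largest order of an automorphism of `PSL_d(q)`
-/

set_option autoImplicit false
set_option linter.style.haveILetI false
set_option linter.unusedSectionVars false

namespace CfsgLib.KnownB.MaxAutOrder

open CfsgLib.KnownB.PSLAut

variable {d : ℕ} {F : Type*} [Field F] [Finite F]

local notation "Md" => Matrix (Fin d) (Fin d) F
local notation "PSLd" => Matrix.ProjectiveSpecialLinearGroup (Fin d) F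
local notation "GLd" => GL (Fin d) F

theorem graph_main (hd : 3 ≤ d) (h32 : ¬ (d = 3 ∧ Nat.card F = 2)) (σ : F ≃+* F) (g : GLd) :
    orderOf (δ g * fld σ * it : MulAut PSLd) ≤ gsum (Nat.card F) d := by
  classical
  haveI : NeZero d := ⟨by omega⟩
  haveI : Finite (F ≃+* F) := Finite.of_injective (fun τ => (τ : F → F)) DFunLike.coe_injective
  haveI : Finite (MulAut PSLd) := Finite.of_injective _ MulEquiv.toEquiv_injective
  have h2 := orderOf_le_mul (δ g * fld σ * it : MulAut PSLd) (e := 2) (by norm_num)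
  rw [graph_sq] at h2
  refine h2.trans ?_
  by_cases hσ : σ ^ 2 = 1
  · rw [hσ, map_one, mul_one]
    by_cases hfull : Nat.card (Algebra.adjoin F {(sqMat σ g : Md)}) = Nat.card F ^ d
    swap
    · exact card_adjoin_lt (by omega) hfull
    by_cases hsmall : IsSmall d (Nat.card F) (orderOf σ)
    swap
    · exact half_bound σ g hd hσ hsmall hfull
    have hσσ : ∀ x, σ (σ x) = x := fun x => by
      have h := congrArg (fun τ : F ≃+* F => τ x) hσ
      simpa [sq] using h
    rcases hsmall with ⟨hq, hd6⟩ | ⟨hq, hd4, ho⟩ | ⟨hq, hd4, ho⟩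
    · have h1 : σ = 1 := by
        haveI := Fintype.ofFinite F
        obtain ⟨e, hI⟩ := interp_two (F := F) hq
        refine RingEquiv.ext fun x => ?_
        obtain ⟨i, rfl⟩ := hI.bij.2 x
        fin_cases i
        · show σ (e tbl2.zero) = e tbl2.zero
          rw [hI.map_zero, map_zero]
        · show σ (e tbl2.one) = e tbl2.one
          rw [hI.map_one, map_one]
      subst h1
      obtain ⟨e, hI⟩ := interp_two (F := F) hq
      obtain rfl | rfl | rfl : d = 4 ∨ d = 5 ∨ d = 6 := by
        have : d ≠ 3 := fun h => h32 ⟨h, hq⟩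
        omega
      · refine (Nat.mul_le_mul_left 2 (small_bound g (by norm_num) hσσ hI check_two.1 hfull)).trans ?_
        rw [hq]; decide
      · refine (Nat.mul_le_mul_left 2 (small_bound g (by norm_num) hσσ hI check_two.2.1 hfull)).trans ?_
        rw [hq]; decide
      · refine (Nat.mul_le_mul_left 2 (small_bound g (by norm_num) hσσ hI check_two.2.2 hfull)).trans ?_
        rw [hq]; decide
    · obtain rfl : σ = 1 := orderOf_eq_one_iff.1 ho
      obtain ⟨e, hI⟩ := interp_three (F := F) hq
      obtain rfl | rfl : d = 3 ∨ d = 4 := by omega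
      · refine (Nat.mul_le_mul_left 2 (small_bound g (by norm_num) hσσ hI check_three.1 hfull)).trans ?_
        rw [hq]; decide
      · refine (Nat.mul_le_mul_left 2 (small_bound g (by norm_num) hσσ hI check_three.2 hfull)).trans ?_
        rw [hq]; decide
    · obtain ⟨e, hI⟩ := interp_four (F := F) hq (σ := σ) fun h => by rw [h, orderOf_one] at ho; omega
      obtain rfl | rfl : d = 3 ∨ d = 4 := by omega
      · refine (Nat.mul_le_mul_left 2 (small_bound g (by norm_num) hσσ hI check_four.1 hfull)).trans ?_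
        rw [hq]; decide
      · refine (Nat.mul_le_mul_left 2 (small_bound g (by norm_num) hσσ hI check_four.2 hfull)).trans ?_
        rw [hq]; decide
  · obtain ⟨hc, hce⟩ := card_fixF (σ ^ 2)
    have h1 := field_bound_gsum (show 2 ≤ d by omega) (σ ^ 2) (sqMat σ g)
    refine (Nat.mul_le_mul_left 2 h1).trans ?_
    rw [← mul_assoc, ← hce]
    have he : 2 ≤ orderOf (σ ^ 2) := by
      have h3 := orderOf_pos (σ ^ 2)
      by_contra h
      exact hσ (orderOf_eq_one_iff.1 (by omega))
    refine graph_arith hc he ?_ hd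
    by_contra hex
    push Not at hex
    have he2 : orderOf (σ ^ 2) = 2 := by omega
    have h4 : orderOf σ ∣ 4 := orderOf_dvd_of_pow_eq_one (by
      have h := pow_orderOf_eq_one (σ ^ 2)
      rw [he2, ← pow_mul] at h
      exact h)
    obtain ⟨hc1, hce1⟩ := card_fixF σ
    have h44 : orderOf σ = 4 := by
      obtain ⟨j, hj, hj'⟩ := (Nat.dvd_prime_pow Nat.prime_two (m := 2)).1 h4
      have : orderOf σ ≠ 1 := fun h => hσ (by rw [orderOf_eq_one_iff.1 h, one_pow])
      have : orderOf σ ≠ 2 := fun h => hσ (by rw [← h, pow_orderOf_eq_one])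
      rw [hj'] at *
      interval_cases j <;> simp_all
    rw [h44] at hce1
    rw [he2] at hce
    have h5 : (Nat.card (fixF σ) ^ 2) ^ 2 = Nat.card (fixF (σ ^ 2)) ^ 2 := by
      rw [hce, ← hce1, ← pow_mul]
    have h6 := Nat.pow_left_injective (by norm_num : (2 : ℕ) ≠ 0) h5
    have : 4 ≤ Nat.card (fixF σ) ^ 2 := by nlinarith
    omega

theorem aut_bound (hd : 2 ≤ d) (h24 : ¬ (d = 2 ∧ Nat.card F = 4)) (h32 : ¬ (d = 3 ∧ Nat.card F = 2))
    (φ : MulAut PSLd) : (Nat.card F - 1) * orderOf φ ≤ Nat.card F ^ d - 1 := by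
  rw [← gsum_mul]
  refine Nat.mul_le_mul_left _ ?_
  obtain ⟨g, σ, e, he, rfl⟩ := decomp hd φ
  rcases he with rfl | ⟨rfl, hd3⟩
  · rw [mul_one]; exact field_main hd h24 σ g
  · exact graph_main hd3 h32 σ g

theorem exists_singer (hd : 2 ≤ d) :
    ∃ φ : MulAut PSLd, Nat.card F ^ d - 1 ≤ (Nat.card F - 1) * orderOf φ := by
  classical
  haveI := Fintype.ofFinite F
  haveI : NeZero d := ⟨by omega⟩
  obtain ⟨p, hp⟩ := CharP.exists F
  haveI : Fact p.Prime := ⟨CharP.char_is_prime F p⟩
  let K := FiniteField.Extension F p d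
  haveI : Finite (MulAut PSLd) := Finite.of_injective _ MulEquiv.toEquiv_injective
  haveI : Finite K := Nat.finite_of_card_ne_zero (by
    rw [FiniteField.natCard_extension]; exact pow_ne_zero _ Nat.card_pos.ne')
  haveI : Module.Finite F K := Module.Finite.of_finite
  let b := Module.finBasisOfFinrankEq F K (FiniteField.finrank_extension F p d)
  let j : Kˣ →* GLd := Units.map (Algebra.leftMulMatrix b).toMonoidHom
  obtain ⟨ζ, hζ⟩ := IsCyclic.exists_generator (α := Kˣ)
  refine ⟨δ (j ζ), ?_⟩
  set m := orderOf (δ (j ζ) : MulAut PSLd) with hm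
  have h1 : (δ (j (ζ ^ m)) : MulAut PSLd) = 1 := by rw [map_pow, map_pow, hm, pow_orderOf_eq_one]
  obtain ⟨c, hc, hc'⟩ := (δ_eq_one_iff hd _).1 h1
  have h2 : ((ζ ^ m : Kˣ) : K) = algebraMap F K c := by
    refine Algebra.leftMulMatrix_injective b ?_
    rw [AlgHom.commutes, Algebra.algebraMap_eq_smul_one]
    exact hc'
  have h3 : ζ ^ (m * (Nat.card F - 1)) = 1 := by
    refine Units.ext ?_
    rw [pow_mul, Units.val_pow_eq_pow_val, h2, ← map_pow, Nat.card_eq_fintype_card,
      FiniteField.pow_card_sub_one_eq_one c hc, map_one, Units.val_one]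
  have h4 := orderOf_dvd_of_pow_eq_one h3
  rw [orderOf_eq_card_of_forall_mem_zpowers hζ, Nat.card_units, FiniteField.natCard_extension] at h4
  rw [mul_comm]
  refine Nat.le_of_dvd (Nat.mul_pos (orderOf_pos _) ?_) h4
  have : 1 < Nat.card F := Finite.one_lt_card
  omega

end CfsgLib.KnownB.MaxAutOrder
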