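import Cfsg.Agent.Lib.KnownB.MaxAutOrder.Graph

/-!
# The small cases of the bound for graph automorphisms
-/

set_option autoImplicit false
set_option linter.style.haveILetI false
set_option linter.unusedSectionVars false

namespace CfsgLib.KnownB.MaxAutOrder

open CfsgLib.KnownB.PSLAut

/-- A field given by tables. -/
structure Tbl (q : ℕ) where
  add : Fin q → Fin q → Fin q
  mul : Fin q → Fin q → Fin q
  neg : Fin q → Fin q
  conj : Fin q → Fin q
  zero : Fin q
  one : Fin q

namespace Tbl

variable {q : ℕ} (T : Tbl q)

/-- Multiplication by `X` modulo `X ^ d + a`. -/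
def step (a v : List (Fin q)) : List (Fin q) :=
  List.zipWith (fun x y => T.add x (T.mul (T.neg (v.getLastD T.zero)) y)) (T.zero :: v.dropLast) a

/-- `X ^ j` modulo `X ^ d + a`. -/
def powX (a : List (Fin q)) : ℕ → List (Fin q)
  | 0 => T.one :: List.replicate (a.length - 1) T.zero
  | j + 1 => T.step a (powX a j)

/-- Is this a constant polynomial? -/
def isConst : List (Fin q) → Bool
  | [] => true
  | _ :: l => l.all fun x => x == T.zero

/-- The necessary condition on a characteristic polynomial. -/
def cond (a : List (Fin q)) : Bool :=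
  (T.one :: a.tail.reverse).map T.conj == a.map (T.mul (T.conj (a.headD T.zero)))

/-- All lists of the given length. -/
def allLists : ℕ → List (List (Fin q))
  | 0 => [[]]
  | n + 1 => (List.finRange q).flatMap fun x => (allLists n).map (x :: ·)

/-- The finite check. -/
def check (d B : ℕ) : Bool :=
  (allLists (q := q) d).all fun a => !T.cond a || (List.range B).any fun j => T.isConst (T.powX a (j + 1))

end Tbl

theorem mem_allLists {q : ℕ} : ∀ (l : List (Fin q)), l ∈ Tbl.allLists (q := q) l.length
  | [] => by simp [Tbl.allLists]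
  | x :: l => by
    simp only [List.length_cons, Tbl.allLists, List.mem_flatMap, List.mem_map]
    exact ⟨x, List.mem_finRange x, l, mem_allLists l, rfl⟩

/-- The table of the field with two elements. -/
def tbl2 : Tbl 2 := ⟨(· + ·), (· * ·), (- ·), id, 0, 1⟩

/-- The table of the field with three elements. -/
def tbl3 : Tbl 3 := ⟨(· + ·), (· * ·), (- ·), id, 0, 1⟩

/-- The table of the field with four elements and its involutory automorphism. -/
def tbl4 : Tbl 4 :=
  ⟨fun x y => ![![0, 1, 2, 3], ![1, 0, 3, 2], ![2, 3, 0, 1], ![3, 2, 1, 0]] x y,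
    fun x y => ![![0, 0, 0, 0], ![0, 1, 2, 3], ![0, 2, 3, 1], ![0, 3, 1, 2]] x y,
    id, ![0, 1, 3, 2], 0, 1⟩

theorem check_two : tbl2.check 4 7 = true ∧ tbl2.check 5 15 = true ∧ tbl2.check 6 31 = true := by
  decide +kernel

theorem check_three : tbl3.check 3 6 = true ∧ tbl3.check 4 20 = true := by
  decide +kernel

theorem check_four : tbl4.check 3 10 = true ∧ tbl4.check 4 42 = true := by
  decide +kernel

variable {d : ℕ} {F : Type*} [Field F] [Finite F] {q : ℕ}

local notation "Md" => Matrix (Fin d) (Fin d) F
local notation "PSLd" => Matrix.ProjectiveSpecialLinearGroup (Fin d) F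
local notation "GLd" => GL (Fin d) F

/-- The interpretation of a table in `F`. -/
structure Interp (T : Tbl q) (σ : F ≃+* F) (e : Fin q → F) : Prop where
  bij : Function.Bijective e
  map_add : ∀ x y, e (T.add x y) = e x + e y
  map_mul : ∀ x y, e (T.mul x y) = e x * e y
  map_neg : ∀ x, e (T.neg x) = - e x
  map_conj : ∀ x, e (T.conj x) = σ (e x)
  map_zero : e T.zero = 0
  map_one : e T.one = 1

/-- Evaluation of a coefficient list at a matrix. -/
def evalL (e : Fin q → F) (N : Md) : List (Fin q) → Md
  | [] => 0
  | x :: l => e x • 1 + N * evalL e N l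

theorem evalL_append (e : Fin q → F) (N : Md) (x : Fin q) :
    ∀ l : List (Fin q), evalL e N (l ++ [x]) = evalL e N l + e x • N ^ l.length
  | [] => by simp [evalL]
  | y :: l => by
    simp only [List.cons_append, evalL, evalL_append e N x l, List.length_cons, pow_succ', mul_add, Matrix.mul_smul]
    abel

theorem evalL_ofFn (e : Fin q → F) (N : Md) : ∀ {n : ℕ} (f : Fin n → Fin q),
    evalL e N (List.ofFn f) = ∑ i : Fin n, e (f i) • N ^ (i : ℕ) := by
  intro n
  induction n with
  | zero => intro f; simp [evalL]
  | succ n ih =>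
    intro f
    rw [List.ofFn_succ, evalL, ih, Fin.sum_univ_succ, Finset.mul_sum]
    simp [pow_succ']

variable {T : Tbl q} {σ : F ≃+* F} {e : Fin q → F}

theorem evalL_zip (hI : Interp T σ e) (N : Md) (t : Fin q) :
    ∀ (v w : List (Fin q)), v.length = w.length →
      evalL e N (List.zipWith (fun x y => T.add x (T.mul t y)) v w) = evalL e N v + e t • evalL e N w
  | [], [], _ => by simp [evalL]
  | [], _ :: _, h => by simp at h
  | _ :: _, [], h => by simp at h
  | x :: v, y :: w, h => by
    simp only [List.zipWith_cons_cons, evalL, evalL_zip hI N t v w (by simpa using h), hI.map_add, hI.map_mul,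
      add_smul, mul_smul, smul_add, mul_add, Matrix.mul_smul]
    abel

theorem powX_spec (hI : Interp T σ e) (N : Md) (a : List (Fin q)) (ha : a ≠ [])
    (hN : evalL e N a + N ^ a.length = 0) :
    ∀ j, (T.powX a j).length = a.length ∧ evalL e N (T.powX a j) = N ^ j := by
  have hlen : 1 ≤ a.length := List.length_pos_of_ne_nil ha
  intro j
  induction j with
  | zero =>
    refine ⟨by simp [Tbl.powX]; omega, ?_⟩
    have hz : ∀ n, evalL e N (List.replicate n T.zero) = 0 := by
      intro n
      induction n with
      | zero => rfl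
      | succ n ih => rw [List.replicate_succ, evalL, ih, hI.map_zero, zero_smul, mul_zero, add_zero]
    rw [Tbl.powX, evalL, hz, hI.map_one, one_smul, mul_zero, add_zero, pow_zero]
  | succ j ih =>
    obtain ⟨hl, he⟩ := ih
    have hne : T.powX a j ≠ [] := List.ne_nil_of_length_pos (by omega)
    have hd : (T.zero :: (T.powX a j).dropLast).length = a.length := by
      simp [List.length_dropLast]; omega
    refine ⟨by simp [Tbl.powX, Tbl.step, List.length_dropLast]; omega, ?_⟩
    rw [Tbl.powX, Tbl.step, evalL_zip hI N _ _ _ hd, pow_succ', ← he]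
    rw [List.getLastD_eq_getLast?, List.getLast?_eq_some_getLast hne, Option.getD_some, hI.map_neg]
    conv_rhs => rw [← List.dropLast_append_getLast hne, evalL_append]
    rw [evalL, hI.map_zero, zero_smul, zero_add, mul_add, Matrix.mul_smul, ← pow_succ', List.length_dropLast,
      Nat.sub_add_cancel (by omega : 1 ≤ (T.powX a j).length), hl, eq_neg_of_add_eq_zero_left hN, neg_smul,
      smul_neg, neg_neg]

theorem isConst_spec (hI : Interp T σ e) (N : Md) : ∀ {l : List (Fin q)}, T.isConst l = true →
    ∃ c : F, evalL e N l = c • 1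
  | [], _ => ⟨0, by simp [evalL]⟩
  | x :: l, h => by
    refine ⟨e x, ?_⟩
    have hz : ∀ l : List (Fin q), (∀ y ∈ l, y = T.zero) → evalL e N l = 0 := by
      intro l
      induction l with
      | nil => intro _; rfl
      | cons y l ih =>
        intro h
        rw [evalL, h y (List.mem_cons_self ..), ih (fun z hz => h z (List.mem_cons_of_mem _ hz)), hI.map_zero,
          zero_smul, mul_zero, add_zero]
    simp only [Tbl.isConst, List.all_eq_true, beq_iff_eq] at h
    rw [evalL, hz l h, mul_zero, add_zero]

theorem small_bound (g : GLd) (hd : 2 ≤ d) (hσ : ∀ x, σ (σ x) = x) (hI : Interp T σ e) {B : ℕ}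
    (hB : T.check d B = true)
    (hfull : Nat.card (Algebra.adjoin F {(sqMat σ g : Md)}) = Nat.card F ^ d) :
    orderOf (δ (sqMat σ g) : MulAut PSLd) ≤ B := by
  classical
  set N := sqMat σ g with hN
  haveI : NeZero d := ⟨by omega⟩
  set χ := (N : Md).charpoly with hχ
  have hdeg : χ.natDegree = d := by rw [hχ, Matrix.charpoly_natDegree_eq_dim, Fintype.card_fin]
  have hlead : χ.coeff d = 1 := by
    have := (Matrix.charpoly_monic (N : Md)).coeff_natDegree
    rwa [← hχ, hdeg] at this
  have hCH : ∑ i ∈ Finset.range (d + 1), χ.coeff i • (N : Md) ^ i = 0 := by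
    rw [← Polynomial.aeval_eq_sum_range' (by omega : χ.natDegree < d + 1)]
    exact Matrix.aeval_self_charpoly _
  have hrev : ∑ i ∈ Finset.range (d + 1), σ (χ.coeff (d - i)) • (N : Md) ^ i = 0 := by
    have h1 := congrArg (iota σ g) hCH
    rw [iota_sum, iota_zero] at h1
    have h2 := congrArg ((N : Md) ^ d * ·) h1
    simp only [Finset.mul_sum, mul_zero] at h2
    rw [← Finset.sum_range_reflect]
    refine Eq.trans (Finset.sum_congr rfl fun i hi => ?_) h2
    rw [Finset.mem_range] at hi
    rw [iota_smul, iota_pow σ g hσ, Matrix.mul_smul, show d + 1 - 1 - i = d - i by omega,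
      show d - (d - i) = i by omega]
    congr 1
    rw [← Units.val_pow_eq_pow_val, ← Units.val_pow_eq_pow_val, ← Units.val_pow_eq_pow_val, ← Units.val_mul]
    congr 1
    rw [inv_pow, eq_mul_inv_iff_mul_eq, ← pow_add, Nat.sub_add_cancel (by omega)]
  have hsub : ∑ i : Fin d, (σ (χ.coeff (d - i)) - σ (χ.coeff 0) * χ.coeff i) • (N : Md) ^ (i : ℕ) = 0 := by
    have h3 : ∑ i ∈ Finset.range (d + 1), (σ (χ.coeff (d - i)) - σ (χ.coeff 0) * χ.coeff i) • (N : Md) ^ i = 0 := by
      simp only [sub_smul, Finset.sum_sub_distrib, mul_smul, ← Finset.smul_sum, hrev, hCH, smul_zero, sub_zero]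
    rw [Finset.sum_range_succ, Nat.sub_self, hlead, mul_one, sub_self, zero_smul, add_zero, Finset.sum_range] at h3
    exact h3
  let f : (Fin d → F) → Md := fun a => ∑ i : Fin d, a i • (N : Md) ^ (i : ℕ)
  have hf : Function.Injective f := by
    have h1 : Nat.card F ^ d ≤ Nat.card (Set.range f) :=
      hfull ▸ Nat.card_mono (Set.toFinite _) (adjoin_subset_range N)
    have h2 : Nat.card (Fin d → F) = Nat.card F ^ d := by
      rw [Nat.card_pi, Finset.prod_const, Finset.card_univ, Fintype.card_fin]
    have h3 : Function.Bijective (Set.rangeFactorization f) :=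
      (Nat.bijective_iff_surjective_and_card _).2
        ⟨Set.rangeFactorization_surjective, le_antisymm (h2 ▸ h1) (Finite.card_range_le f)⟩
    exact fun a b h => h3.1 (Subtype.ext h)
  have hrel : ∀ j : Fin d, σ (χ.coeff (d - j)) = σ (χ.coeff 0) * χ.coeff j := fun j =>
    sub_eq_zero.1 (congrFun (hf (a₁ := fun i : Fin d => σ (χ.coeff (d - i)) - σ (χ.coeff 0) * χ.coeff i)
      (a₂ := 0) (by simpa [f] using hsub)) j)
  let r : ℕ → Fin q := fun i => (Equiv.ofBijective e hI.bij).symm (χ.coeff i)
  have hr : ∀ i, e (r i) = χ.coeff i := fun i => (Equiv.ofBijective e hI.bij).apply_symm_apply _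
  let a : List (Fin q) := List.ofFn fun i : Fin d => r i
  have halen : a.length = d := List.length_ofFn
  have haN : evalL e (N : Md) a + (N : Md) ^ a.length = 0 := by
    rw [halen, evalL_ofFn]
    simp only [hr]
    rw [← hCH, Finset.sum_range_succ, Finset.sum_range, hlead, one_smul]
  have hane : a ≠ [] := List.ne_nil_of_length_pos (by omega)
  have hcond : T.cond a = true := by
    rw [Tbl.cond, beq_iff_eq]
    apply List.ext_getElem (by simp [halen]; omega)
    intro i h1 h2
    apply hI.bij.1
    have hi : i < d := by simpa [halen] using h2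
    have h0 : a.headD T.zero = r 0 := by
      obtain ⟨d', rfl⟩ : ∃ d', d = d' + 1 := ⟨d - 1, by omega⟩
      simp [a, List.ofFn_succ]
    have hR : e ((a.map (T.mul (T.conj (a.headD T.zero))))[i]) = σ (χ.coeff 0) * χ.coeff i := by
      rw [List.getElem_map, hI.map_mul, hI.map_conj, congrArg e h0, hr]; simp [a, hr]
    rw [hR, ← hrel ⟨i, hi⟩]
    rcases i with _ | i
    · simp [hI.map_conj, hI.map_one, hlead]
    · simp only [List.map_cons, List.getElem_cons_succ, List.getElem_map, List.getElem_reverse,
        List.getElem_tail, a, List.getElem_ofFn, hI.map_conj, hr, List.length_tail, List.length_ofFn]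
      congr 2
      omega
  have hc := List.all_eq_true.1 hB a (halen ▸ mem_allLists a)
  rw [hcond, Bool.not_true, Bool.false_or, List.any_eq_true] at hc
  obtain ⟨j, hj, hjc⟩ := hc
  obtain ⟨c, hc⟩ := isConst_spec hI (N : Md) hjc
  rw [(powX_spec hI (N : Md) a hane haN (j + 1)).2, ← Units.val_pow_eq_pow_val] at hc
  have hone : (δ N : MulAut PSLd) ^ (j + 1) = 1 := by
    rw [← map_pow]
    refine (δ_eq_one_iff hd _).2 ⟨c, fun h => Units.ne_zero (N ^ (j + 1)) ?_, hc⟩
    rw [hc, h, zero_smul]
  exact (orderOf_le_of_pow_eq_one (Nat.succ_pos j) hone).trans (List.mem_range.1 hj)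

theorem bij_of_inj {e : Fin q → F} (hq : Nat.card F = q) (he : Function.Injective e) : Function.Bijective e :=
  (Nat.bijective_iff_injective_and_card e).2 ⟨he, by rw [Nat.card_fin, hq]⟩

theorem interp_two (hq : Nat.card F = 2) : ∃ e : Fin 2 → F, Interp tbl2 (1 : F ≃+* F) e := by
  have h2 : (2 : F) = 0 := by
    haveI := Fintype.ofFinite F
    have := FiniteField.cast_card_eq_zero F
    rw [← Nat.card_eq_fintype_card, hq] at this
    exact_mod_cast this
  refine ⟨![0, 1], bij_of_inj hq (by intro x y; fin_cases x <;> fin_cases y <;> simp),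
    ?_, ?_, ?_, fun x => rfl, rfl, rfl⟩
  · intro x y; fin_cases x <;> fin_cases y <;> simp [tbl2, one_add_one_eq_two, h2]
  · intro x y; fin_cases x <;> fin_cases y <;> simp [tbl2]
  · intro x; fin_cases x <;> simp [tbl2]
    linear_combination h2

theorem interp_three (hq : Nat.card F = 3) : ∃ e : Fin 3 → F, Interp tbl3 (1 : F ≃+* F) e := by
  have h3 : (3 : F) = 0 := by
    haveI := Fintype.ofFinite F
    have := FiniteField.cast_card_eq_zero F
    rw [← Nat.card_eq_fintype_card, hq] at this
    exact_mod_cast this
  have hne : (1 : F) ≠ -1 := fun h => one_ne_zero (α := F) (by linear_combination h3 - h)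
  refine ⟨![0, 1, -1], bij_of_inj hq (by
      intro x y; fin_cases x <;> fin_cases y <;> simp [hne, hne.symm, eq_comm (a := (0 : F))]),
    ?_, ?_, ?_, fun x => rfl, rfl, rfl⟩
  · intro x y; fin_cases x <;> fin_cases y <;> simp [tbl3] <;>
      first | linear_combination h3 | linear_combination -h3
  · intro x y; fin_cases x <;> fin_cases y <;> simp [tbl3]
  · intro x; fin_cases x <;> simp [tbl3]

theorem interp_four (hq : Nat.card F = 4) {σ : F ≃+* F} (hσ : σ ≠ 1) :
    ∃ e : Fin 4 → F, Interp tbl4 σ e := by
  haveI := Fintype.ofFinite F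
  have h2 : (2 : F) = 0 := by
    have := FiniteField.cast_card_eq_zero F
    rw [← Nat.card_eq_fintype_card, hq] at this
    have h : (2 : F) ^ 2 = 0 := by norm_num; exact_mod_cast this
    exact pow_eq_zero_iff (by norm_num) |>.1 h
  obtain ⟨w, hw⟩ : ∃ w, σ w ≠ w := by
    by_contra h; push Not at h; exact hσ (RingEquiv.ext h)
  have hw0 : w ≠ 0 := fun h => hw (by rw [h, map_zero])
  have hw1 : w - 1 ≠ 0 := fun h => hw (by rw [sub_eq_zero.1 h, map_one])
  have hpol : w ^ 2 + w + 1 = 0 := by
    have h4 : w ^ 4 = w := by
      have := FiniteField.pow_card w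
      rwa [← Nat.card_eq_fintype_card, hq] at this
    have : w * ((w - 1) * (w ^ 2 + w + 1)) = 0 := by linear_combination h4
    rcases mul_eq_zero.1 this with h | h
    · exact absurd h hw0
    · exact (mul_eq_zero.1 h).resolve_left hw1
  have hpol' : σ w ^ 2 + σ w + 1 = 0 := by
    have := congrArg σ hpol
    simpa using this
  have hsw : σ w = w + 1 := by
    have : (σ w - w) * (σ w + w + 1) = 0 := by linear_combination hpol' - hpol
    have h := (mul_eq_zero.1 this).resolve_left (sub_ne_zero.2 hw)
    linear_combination h - (w + 1) * h2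
  have hw1' : w + 1 ≠ 0 := fun h => hw0 (pow_eq_zero_iff (n := 2) (by norm_num) |>.1 (by linear_combination hpol - h))
  have hne1 : w ≠ 1 := fun h => hw1 (sub_eq_zero.2 h)
  refine ⟨![0, 1, w, w + 1], bij_of_inj hq (by
      intro x y; fin_cases x <;> fin_cases y <;>
        simp [hw0, hw0.symm, hne1, hne1.symm, hw1', hw1'.symm]), ?_, ?_, ?_, ?_, rfl, rfl⟩
  · intro x y; fin_cases x <;> fin_cases y <;> simp [tbl4] <;>
      first
        | ring1
        | linear_combination h2
        | linear_combination -h2
        | linear_combination w * h2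
        | linear_combination -w * h2
        | linear_combination (w + 1) * h2
        | linear_combination -(w + 1) * h2
  · intro x y; fin_cases x <;> fin_cases y <;> simp [tbl4] <;>
      first
        | ring1
        | linear_combination -hpol + (w + 1) * h2
        | linear_combination hpol - (w + 1) * h2
        | linear_combination -hpol
        | linear_combination hpol
        | linear_combination -hpol + h2
  · intro x; fin_cases x <;> simp [tbl4] <;>
      first
        | linear_combination h2
        | linear_combination w * h2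
        | linear_combination (w + 1) * h2
  · intro x; fin_cases x <;> simp [tbl4, hsw]
    linear_combination -h2

end CfsgLib.KnownB.MaxAutOrder
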