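import Mathlib

/-!
# Counting the units of a finite commutative algebra over a finite field
-/

set_option autoImplicit false
set_option linter.style.haveILetI false
set_option linter.unusedSectionVars false

namespace CfsgLib.KnownB.MaxAutOrder

section Ring

variable {L : Type*} [CommRing L] [Finite L]

theorem card_ring_eq [Fintype (MaximalSpectrum L)] :
    Nat.card L = Nat.card (nilradical L) *
      ∏ M : MaximalSpectrum L, Nat.card (L ⧸ M.asIdeal) := by
  have h := AddSubgroup.card_eq_card_quotient_mul_card_addSubgroup (nilradical L).toAddSubgroup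
  rw [h, mul_comm]
  congr 1
  calc Nat.card (L ⧸ (nilradical L).toAddSubgroup)
      = Nat.card (∀ M : MaximalSpectrum L, L ⧸ M.asIdeal) :=
        Nat.card_congr (IsArtinianRing.quotNilradicalEquivPi L).toEquiv
    _ = _ := Nat.card_pi

theorem card_units_eq [Fintype (MaximalSpectrum L)] :
    Nat.card Lˣ = Nat.card (nilradical L) *
      ∏ M : MaximalSpectrum L, (Nat.card (L ⧸ M.asIdeal) - 1) := by
  classical
  let f : L →+* ∀ M : MaximalSpectrum L, L ⧸ M.asIdeal := RingHom.pi fun M => Ideal.Quotient.mk M.asIdeal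
  let e := IsArtinianRing.quotNilradicalEquivPi L
  have hef : ∀ x, f x = e (Ideal.Quotient.mk (nilradical L) x) := fun x => rfl
  have hfs : Function.Surjective f := by
    intro y
    obtain ⟨x, hx⟩ := Ideal.Quotient.mk_surjective (e.symm y)
    exact ⟨x, (hef x).trans ((congrArg e hx).trans (e.apply_symm_apply y))⟩
  have hker : RingHom.ker f = nilradical L := by
    ext x
    rw [RingHom.mem_ker, hef, map_eq_zero_iff e e.injective, Ideal.Quotient.eq_zero_iff_mem]
  have hu : ∀ x : L, IsUnit x ↔ ∀ M : MaximalSpectrum L, f x M ≠ 0 := by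
    intro x
    constructor
    · intro hx M h0
      exact M.isMaximal.ne_top (Ideal.eq_top_of_isUnit_mem _ (Ideal.Quotient.eq_zero_iff_mem.1 h0) hx)
    · intro h
      by_contra hx
      obtain ⟨M, hM, hxM⟩ := exists_max_ideal_of_mem_nonunits hx
      exact h ⟨M, hM⟩ (Ideal.Quotient.eq_zero_iff_mem.2 hxM)
  let P := {y : ∀ M : MaximalSpectrum L, L ⧸ M.asIdeal // ∀ M, y M ≠ 0}
  have hP : Nat.card P = ∏ M : MaximalSpectrum L, (Nat.card (L ⧸ M.asIdeal) - 1) := by
    rw [Nat.card_congr (Equiv.subtypePiEquivPi (p := fun (M : MaximalSpectrum L) (a : L ⧸ M.asIdeal) => a ≠ 0)),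
      Nat.card_pi]
    refine Finset.prod_congr rfl fun M _ => ?_
    haveI : Finite (L ⧸ M.asIdeal) := Finite.of_surjective _ Ideal.Quotient.mk_surjective
    haveI := Fintype.ofFinite (L ⧸ M.asIdeal)
    rw [Nat.card_eq_fintype_card, Fintype.card_subtype_compl, Fintype.card_subtype_eq, Nat.card_eq_fintype_card]
  have hUnits : Nat.card Lˣ = Nat.card {x : L // IsUnit x} :=
    Nat.card_congr (Equiv.ofBijective (fun u : Lˣ => (⟨u, u.isUnit⟩ : {x : L // IsUnit x}))
      ⟨fun a b h => Units.ext (congrArg Subtype.val h), fun x => ⟨x.2.unit, Subtype.ext x.2.unit_spec⟩⟩)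
  rw [hUnits, ← hP, ← hker, mul_comm, ← Nat.card_prod]
  choose s hs using hfs
  refine Nat.card_congr
    { toFun := fun x => (⟨f x.1, (hu _).1 x.2⟩, ⟨x.1 - s (f x.1), by rw [RingHom.mem_ker, map_sub, hs, sub_self]⟩)
      invFun := fun y => ⟨s y.1.1 + y.2.1, (hu _).2 fun M => by
        rw [map_add, hs, RingHom.mem_ker.1 y.2.2, add_zero]; exact y.1.2 M⟩
      left_inv := fun x => Subtype.ext (by simp)
      right_inv := fun y => by
        have e : f (s y.1.1 + y.2.1) = y.1.1 := by rw [map_add, hs, RingHom.mem_ker.1 y.2.2, add_zero]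
        ext
        · exact congrFun e _
        · show s y.1.1 + y.2.1 - s (f (s y.1.1 + y.2.1)) = y.2.1
          rw [e]; ring }

end Ring

variable {K L : Type*} [Field K] [Finite K] [CommRing L] [Algebra K L] [Finite L]

theorem dim_residue (M : Ideal L) [M.IsMaximal] :
    ∃ j : ℕ, 1 ≤ j ∧ Nat.card (L ⧸ M) = Nat.card K ^ j := by
  haveI : Finite (L ⧸ M) := Finite.of_surjective _ Ideal.Quotient.mk_surjective
  haveI : Nontrivial (L ⧸ M) := Ideal.Quotient.nontrivial_iff.2 (Ideal.IsMaximal.ne_top inferInstance)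
  haveI : Module.Finite K (L ⧸ M) := Module.Finite.of_finite
  refine ⟨Module.finrank K (L ⧸ M), Module.finrank_pos, ?_⟩
  exact Module.natCard_eq_pow_finrank

/-- `(c - 1) ^ h ≤ |Lˣ|` for an algebra of dimension `h` over the field with `c` elements. -/
theorem pow_le_card_units {h : ℕ} (hL : Nat.card K ^ h ≤ Nat.card L) :
    (Nat.card K - 1) ^ h ≤ Nat.card Lˣ := by
  classical
  haveI := Fintype.ofFinite (MaximalSpectrum L)
  set c := Nat.card K with hc
  have hc2 : 1 < c := Finite.one_lt_card
  choose j hj1 hj using fun M : MaximalSpectrum L => (haveI := M.isMaximal; dim_residue (K := K) M.asIdeal)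
  haveI : Module.Finite K L := Module.Finite.of_finite
  have hle : h ≤ Module.finrank K L := by
    rw [Module.natCard_eq_pow_finrank (K := K) (V := L)] at hL
    exact (Nat.pow_le_pow_iff_right hc2).1 hL
  let N := Submodule.restrictScalars K (nilradical L)
  have hN : Nat.card (nilradical L) = c ^ Module.finrank K N :=
    Module.natCard_eq_pow_finrank (K := K) (V := N)
  have hsum : Module.finrank K L = Module.finrank K N + ∑ M, j M := by
    apply Nat.pow_right_injective hc2
    simp only
    rw [← Module.natCard_eq_pow_finrank, card_ring_eq, hN, Finset.prod_congr rfl fun M _ => hj M,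
      Finset.prod_pow_eq_pow_sum, pow_add]
  calc (c - 1) ^ h ≤ (c - 1) ^ (Module.finrank K N + ∑ M, j M) :=
        Nat.pow_le_pow_right (by omega) (hle.trans hsum.le)
    _ ≤ c ^ Module.finrank K N * ∏ M : MaximalSpectrum L, (c ^ j M - 1) := by
      rw [pow_add, ← Finset.prod_pow_eq_pow_sum]
      refine Nat.mul_le_mul (Nat.pow_le_pow_left (by omega) _) (Finset.prod_le_prod (fun M _ => by omega)
        fun M _ => ?_)
      have h1 : c ^ j M = c * c ^ (j M - 1) := by rw [← pow_succ']; congr 1; have := hj1 M; omega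
      calc (c - 1) ^ j M = (c - 1) * (c - 1) ^ (j M - 1) := by
            rw [← pow_succ']; congr 1; have := hj1 M; omega
        _ ≤ (c - 1) * c ^ (j M - 1) := Nat.mul_le_mul_left _ (Nat.pow_le_pow_left (by omega) _)
        _ ≤ c ^ j M - 1 := by
          rw [h1, Nat.sub_mul, one_mul]
          have : 1 ≤ c ^ (j M - 1) := Nat.one_le_pow _ _ (by omega)
          omega
    _ = _ := by rw [card_units_eq, hN, Finset.prod_congr rfl fun M _ => by rw [← hj M]]

omit [Algebra K L] in
theorem cube_ineq {f : ℕ} (h : 4 ≤ f) : f ^ 2 ≤ (f - 1) ^ 3 := by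
  obtain ⟨g, rfl⟩ : ∃ g, f = g + 4 := ⟨f - 4, by omega⟩
  have : g + 4 - 1 = g + 3 := by omega
  rw [this]
  nlinarith [sq_nonneg (g : ℤ)]

/-- Over the field with two elements, with at most `b` residue fields of order two. -/
theorem card_sq_le_units_cube (hK : Nat.card K = 2) {b : ℕ}
    (hb : Nat.card {M : MaximalSpectrum L // Nat.card (L ⧸ M.asIdeal) = 2} ≤ b) :
    Nat.card L ^ 2 ≤ 4 ^ b * Nat.card Lˣ ^ 3 := by
  classical
  haveI := Fintype.ofFinite (MaximalSpectrum L)
  rw [card_ring_eq, card_units_eq]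
  set n := Nat.card (nilradical L)
  have key : ∀ M : MaximalSpectrum L, Nat.card (L ⧸ M.asIdeal) ^ 2 ≤
      (if Nat.card (L ⧸ M.asIdeal) = 2 then 4 else 1) * (Nat.card (L ⧸ M.asIdeal) - 1) ^ 3 := by
    intro M
    haveI := M.isMaximal
    obtain ⟨j, hj1, hj⟩ := dim_residue (K := K) M.asIdeal
    rw [hK] at hj
    rcases Nat.lt_or_ge j 2 with h | h
    · obtain rfl : j = 1 := by omega
      simp [hj]
    · have h4 : 4 ≤ Nat.card (L ⧸ M.asIdeal) := by
        rw [hj]; calc 4 = 2 ^ 2 := rfl
          _ ≤ 2 ^ j := Nat.pow_le_pow_right (by norm_num) h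
      rw [if_neg (by omega), one_mul]
      exact cube_ineq h4
  have hprod := Finset.prod_le_prod (s := (Finset.univ : Finset (MaximalSpectrum L)))
    (fun M _ => Nat.zero_le _) (fun M _ => key M)
  rw [Finset.prod_pow, Finset.prod_mul_distrib, Finset.prod_pow, Finset.prod_ite, Finset.prod_const,
    Finset.prod_const, one_pow, mul_one] at hprod
  have hcard : (Finset.univ.filter fun M : MaximalSpectrum L => Nat.card (L ⧸ M.asIdeal) = 2).card ≤ b := by
    rw [← Fintype.card_subtype, ← Nat.card_eq_fintype_card]; exact hb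
  rw [mul_pow, mul_pow]
  have hn : 1 ≤ n := Nat.card_pos
  calc n ^ 2 * (∏ M : MaximalSpectrum L, Nat.card (L ⧸ M.asIdeal)) ^ 2
      ≤ n ^ 3 * (4 ^ b * (∏ M : MaximalSpectrum L, (Nat.card (L ⧸ M.asIdeal) - 1)) ^ 3) :=
        Nat.mul_le_mul (Nat.pow_le_pow_right hn (by norm_num))
          (hprod.trans (Nat.mul_le_mul_right _ (Nat.pow_le_pow_right (by norm_num) hcard)))
    _ = _ := by ring

end CfsgLib.KnownB.MaxAutOrder
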